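import Groth.Agent.TateLoc.K620.HopfPow
import Groth.Agent.SGA3b.K202.Conv
import Groth.Agent.S4130
import Groth.Agent.S3264
import Groth.Agent.TateLoc.K809.Les
import Groth.Agent.CGrpSh.K731.Full
import Groth.Prelude.Def_CGrpSh2

/-!
# Affine commutative groups in characteristic `p` are of multiplicative type up to powers of `p`

* `pow_trivial`: a unipotent commutative group in characteristic `p` is killed by a power of `p`;
* `exists_factor`: a power `p^n` of an affine commutative group `G` of finite type factors through its largest subgroup of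
  multiplicative type;
* `nsmul_H_eq_zero`: consequences for the cohomology of the dual sheaf.
-/

set_option autoImplicit false
universe u

open CategoryTheory CategoryTheory.Limits MonoidalCategory CartesianMonoidalCategory MonObj GrpObj AlgebraicGeometry
open TensorProduct SGA3b Coalgebra Bialgebra WithConv
open Groth.Agent.Books Groth.Agent.Books.AffBridge Groth.Agent.Books.AffBridge2 K620.HopfSeq K620.HopfPow Opposite

noncomputable section

namespace K773.Unip

section hopf

variable {k : Type u} [Field k] {A B : Type u} [CommRing A] [HopfAlgebra k A] [CommRing B] [HopfAlgebra k B]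

theorem powConv_comp (m n : ℕ) : (powConv k A m).comp (powConv k A n) = powConv k A (m * n) := by
  have h := K202.Conv.toConv_comp_powConv (powConv k A m) n
  have h2 : toConv ((powConv k A m).comp (powConv k A n)) = toConv (powConv k A (m * n)) := by
    rw [h]
    change ((toConv (AlgHom.id k A)) ^ m) ^ n = (toConv (AlgHom.id k A)) ^ (m * n)
    rw [pow_mul]
  exact congrArg WithConv.ofConv h2

theorem powConv_of_primitive {x : A} (hx : comul (R := k) x = x ⊗ₜ[k] (1 : A) + (1 : A) ⊗ₜ[k] x)
    (hε : counit (R := k) x = 0) (n : ℕ) : powConv k A n x = n • x := by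
  induction n with
  | zero =>
    rw [Groth.Agent.Sga3A.PowConv.powConv_zero_apply, hε, map_zero, zero_smul]
  | succ n ih =>
    rw [Groth.Agent.Sga3A.PowConv.powConv_succ_apply, hx, map_add]
    simp only [Algebra.TensorProduct.lift_tmul, map_one, _root_.mul_one, _root_.one_mul, AlgHom.id_apply]
    rw [ih, succ_nsmul]

theorem counit_of_primitive {H : Type u} [CommRing H] [HopfAlgebra k H] {y : H}
    (hy : comul (R := k) y = y ⊗ₜ[k] 1 + 1 ⊗ₜ[k] y) : counit (R := k) y = 0 := by
  have h4 := Coalgebra.rTensor_counit_comul (R := k) y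
  rw [hy, map_add, LinearMap.rTensor_tmul, LinearMap.rTensor_tmul, Bialgebra.counit_one] at h4
  have h5 : (counit (R := k) y) ⊗ₜ[k] (1 : H) = 0 := by
    simpa using h4
  have h6 := congrArg (TensorProduct.lid k H) h5
  rw [TensorProduct.lid_tmul, map_zero] at h6
  have h7 := congrArg (counit (R := k)) h6
  rw [map_smul, Bialgebra.counit_one, map_zero, smul_eq_mul, _root_.mul_one] at h7
  exact h7

/-- A unipotent commutative algebraic group in characteristic `p` is killed by a power of `p`. -/
theorem pow_trivial (p : ℕ) [Fact p.Prime] [CharP k p] [Coalgebra.IsCocomm k A] [Algebra.FiniteType k A]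
    (hU : HopfRep.IsUnipotent k A) : ∃ n : ℕ, ∀ a : A, powConv k A (p ^ n) a = algebraMap k A (counit a) := by
  have hN : IsNoetherianRing A := Algebra.FiniteType.isNoetherianRing k A
  have hle : ∀ n, RingHom.ker (powB k A (p ^ n)) ≤ RingHom.ker (powB k A (p ^ (n + 1))) := by
    intro n a ha
    have ha' : powConv k A (p ^ n) a = 0 := by rw [← powB_apply]; exact ha
    have h1 : powConv k A (p ^ (n + 1)) a = 0 := by
      rw [pow_succ', ← powConv_comp]
      change powConv k A p (powConv k A (p ^ n) a) = 0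
      rw [ha', map_zero]
    have h2 : powB k A (p ^ (n + 1)) a = 0 := by rw [powB_apply]; exact h1
    exact h2
  let I : ℕ →o Ideal A := ⟨fun n => RingHom.ker (powB k A (p ^ n)), monotone_nat_of_le_succ hle⟩
  obtain ⟨n, hn⟩ := monotone_stabilizes_iff_noetherian.2 hN I
  have hI : (RingHom.ker (powB k A (p ^ n))).IsHopfIdeal k := isHopfIdeal_ker _
  have key : RingHom.ker (powB k A (p ^ n)) = RingHom.ker (counitAlgHom k A) := by
    by_contra hne
    obtain ⟨x, hx0, hx⟩ := (Groth.Agent.S3264.result k A).1 hU _ hne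
    apply hx0
    obtain ⟨b, rfl⟩ := Ideal.Quotient.mk_surjective x
    rw [Ideal.Quotient.eq_zero_iff_mem]
    have h1 : powConv k (A ⧸ RingHom.ker (powB k A (p ^ n))) p (Ideal.Quotient.mk _ b) =
        Ideal.Quotient.mk _ (powConv k A p b) :=
      Groth.Agent.Sga3A.PowConv.powConv_map k A (Bialgebra.Quotient.mkBialgHom (R := k) (RingHom.ker (powB k A (p ^ n)))) p b
    rw [powConv_of_primitive hx (counit_of_primitive hx)] at h1
    have h0 : p • (Ideal.Quotient.mk (RingHom.ker (powB k A (p ^ n))) b) = 0 := by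
      rw [← Nat.cast_smul_eq_nsmul k, CharP.cast_eq_zero, zero_smul]
    rw [h0] at h1
    have h2 : powConv k A p b ∈ RingHom.ker (powB k A (p ^ n)) := Ideal.Quotient.eq_zero_iff_mem.1 h1.symm
    have h3 : powConv k A (p ^ n) (powConv k A p b) = 0 := by
      rw [← powB_apply]; exact h2
    have h4 : b ∈ RingHom.ker (powB k A (p ^ (n + 1))) := by
      change powB k A (p ^ (n + 1)) b = 0
      rw [powB_apply, pow_succ, ← powConv_comp]
      exact h3
    have h5 : RingHom.ker (powB k A (p ^ n)) = RingHom.ker (powB k A (p ^ (n + 1))) := hn (n + 1) (Nat.le_succ n)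
    rw [h5]
    exact h4
  refine ⟨n, fun a => ?_⟩
  have h1 : a - algebraMap k A (counit (R := k) a) ∈ RingHom.ker (counitAlgHom k A) := by
    rw [RingHom.mem_ker, map_sub, AlgHom.commutes]
    simp
  rw [← key] at h1
  have h2 : powConv k A (p ^ n) (a - algebraMap k A (counit (R := k) a)) = 0 := by
    rw [← powB_apply]; exact h1
  rw [map_sub, AlgHom.commutes, sub_eq_zero] at h2
  exact h2

variable (A) in
/-- A power of `p` factors through the largest subgroup of multiplicative type. -/
theorem exists_factor (p : ℕ) [Fact p.Prime] [CharP k p] [Coalgebra.IsCocomm k A] [Algebra.FiniteType k A] :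
    ∃ (J : Ideal A) (_ : J.IsHopfIdeal k), IsMultTypeConst k (A ⧸ J) ∧ ∃ (n : ℕ) (s : (A ⧸ J) →ₐc[k] A),
      ∀ a, s (Ideal.Quotient.mk J a) = powConv k A (p ^ n) a := by
  obtain ⟨J, hJ, hM, -, B, _, _, φ, hφ, hJB, hU⟩ := Groth.Agent.S4130.result k A
  have hBft : Algebra.FiniteType k B := finiteType_of_injective φ hφ
  have hBc : Coalgebra.IsCocomm k B := isCocomm_of_injective φ hφ
  obtain ⟨n, hn⟩ := pow_trivial p hU
  have hker : ∀ a ∈ J, powB k A (p ^ n) a = 0 := by
    intro a ha
    have h1 : J ≤ RingHom.ker (powB k A (p ^ n)) := by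
      rw [hJB, Ideal.map_le_iff_le_comap]
      intro b hb
      have hb' : counit (R := k) b = 0 := hb
      change powB k A (p ^ n) (φ b) = 0
      rw [powB_apply, Groth.Agent.Sga3A.PowConv.powConv_map k B φ, hn, hb', map_zero, map_zero]
    exact h1 ha
  let g : (A ⧸ J) →ₐ[k] A := Ideal.Quotient.liftₐ J (powB k A (p ^ n) : A →ₐ[k] A) hker
  let s : (A ⧸ J) →ₐc[k] A := BialgHom.ofAlgHom g
    (by
      apply Ideal.Quotient.algHom_ext
      ext a
      exact CoalgHomClass.counit_comp_apply (powB k A (p ^ n)) a)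
    (by
      apply Ideal.Quotient.algHom_ext
      apply AlgHom.toLinearMap_injective
      have h1 : ∀ a, CoalgebraStruct.comul (R := k) (powB k A (p ^ n) a) =
          TensorProduct.map (powB k A (p ^ n)).toLinearMap (powB k A (p ^ n)).toLinearMap (CoalgebraStruct.comul a) := fun a =>
        (CoalgHomClass.map_comp_comul_apply (powB k A (p ^ n)) a).symm
      ext a
      refine Eq.trans ?_ (h1 a).symm
      change (TensorProduct.map _ _) ((TensorProduct.map _ _) (CoalgebraStruct.comul a)) = _
      rw [← LinearMap.comp_apply, ← TensorProduct.map_comp]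
      rfl)
  exact ⟨J, hJ, hM, n, s, fun a => powB_apply (p ^ n) a⟩

end hopf

section sheaf

variable {k : Type u} [Field k] {A : Type u} [CommRing A] [HopfAlgebra k A] [IsCommMonObj (SpecOver k A)]

theorem specMap_powConv (m : ℕ) : specMap k (powConv k A m) = (𝟙 (SpecOver k A)) ^ m := by
  induction m with
  | zero =>
    rw [pow_zero]
    exact specMap_one k
  | succ m ih =>
    rw [pow_succ, ← ih]
    have h := specMap_mul k (toConv (powConv k A m)) (toConv (AlgHom.id k A))
    rw [WithConv.ofConv_toConv, WithConv.ofConv_toConv, specMap_id] at h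
    rw [← h]
    rfl

theorem ptsMap_specMap_pow (m : ℕ) [IsMonHom (specMap k (powConv k A m))] :
    CGrpSh.ptsMap Scheme.fppfPrecoverage (specMap k (powConv k A m)) =
      m • 𝟙 (CGrpSh.pts Scheme.fppfPrecoverage (SpecOver k A)) := by
  rw [← K731.Full.ptsMap_hom (m • 𝟙 (CGrpSh.pts Scheme.fppfPrecoverage (SpecOver k A)))]
  have h1 : K731.Full.hom (m • 𝟙 (CGrpSh.pts Scheme.fppfPrecoverage (SpecOver k A))) = (𝟙 (SpecOver k A)) ^ m := by
    have h2 : (m • 𝟙 (CGrpSh.pts Scheme.fppfPrecoverage (SpecOver k A))).hom.app (op (SpecOver k A))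
        (ULift.up (Additive.ofMul (𝟙 (SpecOver k A)))) = m • (ULift.up (Additive.ofMul (𝟙 (SpecOver k A)))) := by
      induction m with
      | zero => rw [zero_smul, zero_smul]; rfl
      | succ m ih =>
        rw [succ_nsmul, succ_nsmul, ← ih]
        rfl
    exact congrArg (fun z => z.down.toMul) h2
  simp only [h1, specMap_powConv]

/-- If a power map of `G` factors through `M`, torsion of the cohomology of the dual of `M` gives torsion for `G`. -/
theorem nsmul_H_eq_zero {J : Ideal A} [J.IsHopfIdeal k] [IsCommMonObj (SpecOver k (A ⧸ J))] (m : ℕ)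
    (s : (A ⧸ J) →ₐc[k] A) (hs : ∀ a, s (Ideal.Quotient.mk J a) = powConv k A m a) (q : ℕ)
    (x : BigSite.H Scheme.fppfPrecoverage (Spec (CommRingCat.of k))
      (CGrpSh2.dualSh Scheme.fppfPrecoverage (CGrpSh.pts Scheme.fppfPrecoverage (SpecOver k A))) q) :
    ∃ y : BigSite.H Scheme.fppfPrecoverage (Spec (CommRingCat.of k))
      (CGrpSh2.dualSh Scheme.fppfPrecoverage (CGrpSh.pts Scheme.fppfPrecoverage (SpecOver k (A ⧸ J)))) q,
      ∀ N : ℕ, N • y = 0 → (m * N) • x = 0 := by
  have i1 : IsMonHom (specMap k (Ideal.Quotient.mkₐ k J)) :=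
    isMonHom_specMap k (Bialgebra.Quotient.mkBialgHom (R := k) J)
  have i2 : IsMonHom (specMap k (s : (A ⧸ J) →ₐ[k] A)) := isMonHom_specMap k s
  let jM := CGrpSh.ptsMap Scheme.fppfPrecoverage (specMap k (Ideal.Quotient.mkₐ k J))
  let σ := CGrpSh.ptsMap Scheme.fppfPrecoverage (specMap k (s : (A ⧸ J) →ₐ[k] A))
  let F := CGrpSh2.dualFunctor Scheme.fppfPrecoverage (Spec (CommRingCat.of k))
  have h1 : specMap k (s : (A ⧸ J) →ₐ[k] A) ≫ specMap k (Ideal.Quotient.mkₐ k J) = specMap k (powConv k A m) := by
    rw [← specMap_comp]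
    congr 1
    ext a
    exact hs a
  have i3 : IsMonHom (specMap k (powConv k A m)) := by rw [← h1]; infer_instance
  have h2 : σ ≫ jM = m • 𝟙 _ := by
    rw [← ptsMap_specMap_pow, ← CGrpSh.ptsMap_comp]
    simp only [h1]
  have h3 : F.map jM.op ≫ F.map σ.op = m • 𝟙 _ := by
    have h5 : (m • 𝟙 (CGrpSh.pts Scheme.fppfPrecoverage (SpecOver k A))).op =
        m • 𝟙 (op (CGrpSh.pts Scheme.fppfPrecoverage (SpecOver k A))) :=
      map_nsmul (opHom (CGrpSh.pts Scheme.fppfPrecoverage (SpecOver k A))
        (CGrpSh.pts Scheme.fppfPrecoverage (SpecOver k A))) m (𝟙 _)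
    rw [← F.map_comp, ← op_comp, h2, h5, Functor.map_nsmul, F.map_id]
  let X := (constantSheaf (QuotSh.J Scheme.fppfPrecoverage (Spec (CommRingCat.of k))) AddCommGrpCat.{u + 1}).obj
    (AddCommGrpCat.of (ULift.{u + 1, 0} ℤ))
  let x' : Abelian.Ext X (F.obj (op (CGrpSh.pts Scheme.fppfPrecoverage (SpecOver k A)))) q := x
  let y' := K809.Les.mp X (F.map jM.op) q x'
  refine ⟨y', fun N hN => ?_⟩
  have h4 : m • x' = K809.Les.mp X (F.map σ.op) q y' := by
    rw [← K809.Les.mp_comp, h3, K809.Les.mp_nsmul_id]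
  have h6 : N • y' = 0 := hN
  have h7 : (m * N) • x' = 0 := by
    rw [_root_.mul_comm, mul_smul, h4, ← map_nsmul, h6, map_zero]
  exact h7

end sheaf

end K773.Unip
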