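import Groth.Agent.TateLoc.K773.Mult
import Groth.Agent.TateLoc.K773.Unip

/-!
# Torsion in the cohomology of the dual sheaf

`exponent`: `H¹(k, Ĝ)` has finite exponent; `torsion`: `H^{q+1}(k, Ĝ)` is torsion.
-/

set_option autoImplicit false
universe u

open CategoryTheory CategoryTheory.Limits MonoidalCategory CartesianMonoidalCategory MonObj GrpObj AlgebraicGeometry
open TensorProduct
open Groth.Agent.Books.AffBridge K620.HopfSeq

noncomputable section

namespace K773.DualTors

/-- The cohomology of the dual sheaf. -/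
abbrev HD {k : Type u} [Field k] (G : Over (Spec (CommRingCat.of k))) [GrpObj G] [IsCommMonObj G] (q : ℕ) : Type (u + 1) :=
  BigSite.H Scheme.fppfPrecoverage (Spec (CommRingCat.of k))
    (CGrpSh2.dualSh Scheme.fppfPrecoverage (CGrpSh.pts Scheme.fppfPrecoverage G)) q

section

variable {k : Type u} [Field k] {A : Type u} [CommRing A] [HopfAlgebra k A] [IsCommMonObj (SpecOver k A)]
  [Algebra.FiniteType k A]

theorem exponent_mult (hA : SGA3b.IsMultTypeConst k A) :
    ∃ n : ℕ, 0 < n ∧ ∀ x : HD (SpecOver k A) 1, n • x = 0 := by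
  obtain ⟨n, hn, h⟩ := Perf.exponent_et k A
  obtain ⟨e⟩ := EtLk.nonempty_hEquiv (Mult.etLike hA) 1
  refine ⟨n, hn, fun x => ?_⟩
  let x' : EtFppf.HF _ (Perf.D k A) 1 := x
  have h1 : n • x' = 0 := e.symm.injective (by rw [map_nsmul, h, map_zero])
  exact h1

theorem torsion_mult (hA : SGA3b.IsMultTypeConst k A) (q : ℕ) (x : HD (SpecOver k A) (q + 1)) :
    ∃ n : ℕ, 0 < n ∧ n • x = 0 := by
  obtain ⟨e⟩ := EtLk.nonempty_hEquiv (Mult.etLike hA) (q + 1)
  let x' : EtFppf.HF _ (Perf.D k A) (q + 1) := x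
  obtain ⟨n, hn, h⟩ := EtExp.exists_nsmul_H _ q (e.symm x')
  have h1 : n • x' = 0 := e.symm.injective (by rw [map_nsmul, h, map_zero])
  exact ⟨n, hn, h1⟩

variable (k A) in
theorem exponent_hopf [Coalgebra.IsCocomm k A] : ∃ n : ℕ, 0 < n ∧ ∀ x : HD (SpecOver k A) 1, n • x = 0 := by
  by_cases hp : PerfectField k
  · exact Perf.exponent_perfect k A
  · obtain ⟨p, hchar⟩ := CharP.exists k
    have hp0 : p ≠ 0 := by
      rintro rfl
      have : CharZero k := CharP.charP_to_charZero k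
      exact hp inferInstance
    have hprime : Fact p.Prime := ⟨(CharP.char_is_prime_or_zero k p).resolve_right hp0⟩
    obtain ⟨J, hJ, hM, m, s, hs⟩ := Unip.exists_factor (k := k) A p
    obtain ⟨N, hN, h⟩ := exponent_mult hM
    refine ⟨p ^ m * N, Nat.mul_pos (pow_pos hprime.out.pos m) hN, fun x => ?_⟩
    obtain ⟨y, hy⟩ := Unip.nsmul_H_eq_zero (p ^ m) s hs 1 x
    exact hy N (h y)

variable (k A) in
theorem torsion_hopf [Coalgebra.IsCocomm k A] (q : ℕ) (x : HD (SpecOver k A) (q + 1)) :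
    ∃ n : ℕ, 0 < n ∧ n • x = 0 := by
  by_cases hp : PerfectField k
  · exact Perf.torsion_perfect k A q x
  · obtain ⟨p, hchar⟩ := CharP.exists k
    have hp0 : p ≠ 0 := by
      rintro rfl
      have : CharZero k := CharP.charP_to_charZero k
      exact hp inferInstance
    have hprime : Fact p.Prime := ⟨(CharP.char_is_prime_or_zero k p).resolve_right hp0⟩
    obtain ⟨J, hJ, hM, m, s, hs⟩ := Unip.exists_factor (k := k) A p
    obtain ⟨y, hy⟩ := Unip.nsmul_H_eq_zero (p ^ m) s hs (q + 1) x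
    obtain ⟨N, hN, h⟩ := torsion_mult hM q y
    exact ⟨p ^ m * N, Nat.mul_pos (pow_pos hprime.out.pos m) hN, hy N h⟩

end

section

variable (k : Type u) [Field k] (G : Over (Spec (CommRingCat.of k))) [GrpObj G] [IsCommMonObj G] [IsAffine G.left]
  [LocallyOfFiniteType G.hom]

theorem exponent : ∃ n : ℕ, 0 < n ∧ ∀ x : HD G 1, n • x = 0 := by
  obtain ⟨A, _, _, _, e, he, hft⟩ := exists_model G
  have hA : Algebra.FiniteType k A := hft inferInstance
  obtain ⟨n, hn, h⟩ := exponent_hopf k A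
  refine ⟨n, hn, fun x => (Perf.dualHEquiv e 1).symm.injective ?_⟩
  rw [map_nsmul, h, map_zero]

theorem torsion (q : ℕ) (x : HD G (q + 1)) : ∃ n : ℕ, 0 < n ∧ n • x = 0 := by
  obtain ⟨A, _, _, _, e, he, hft⟩ := exists_model G
  have hA : Algebra.FiniteType k A := hft inferInstance
  obtain ⟨n, hn, h⟩ := torsion_hopf k A q ((Perf.dualHEquiv e (q + 1)).symm x)
  refine ⟨n, hn, (Perf.dualHEquiv e (q + 1)).symm.injective ?_⟩
  rw [map_nsmul, h, map_zero]

end

end K773.DualTors
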