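import Groth.Agent.CurvesA.EtFieldTr
import Groth.Agent.CurvesA.EtFieldH
import Groth.Agent.TateLoc.K809.Les

/-!
# Étale cohomology of fields: torsion, transfer, and exponents

`F` an abelian sheaf on the small étale site of `Spec K`; `Ext^q(Z_L, F) = H^q(L, F)`.

* `exists_nsmul_ext`: every class of positive degree is torsion;
* `nsmul_of_res_zero`: a class which dies over `L` is killed by `[L : K]`;
* `nsmul_ext_one`: if `F(L) → F(N)` is onto for all `N ⊇ L` and `t` kills the torsion of all `F(N)`, then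
  `t` kills `H¹(L, F)`; hence (`exists_exponent`) `H¹(K, F)` has finite exponent.
-/

set_option autoImplicit false

universe u

open CategoryTheory Category Limits Opposite AlgebraicGeometry Abelian
open Groth.Agent.CurvesA Groth.Agent.CurvesA.EtFieldObj Groth.Agent.CurvesA.EtFieldDesc
  Groth.Agent.CurvesA.EtFieldTr

namespace K773.EtExp

variable {K : Type u} [Field K] (F : EtCoh.Ab (Spec (CommRingCat.of K)))

/-- A class of positive degree dies over a finite Galois extension. -/
theorem exists_galois_res_zero (q : ℕ) (L : Type u) [Field L] [Algebra K L] [FiniteDimensional K L]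
    [Algebra.IsSeparable K L] (x : Ext (ZL K L) F (q + 1)) :
    ∃ (N : Type u) (_ : Field N) (_ : Algebra K N) (_ : FiniteDimensional K N) (_ : IsGalois K N)
      (f : etObj K N ⟶ etObj K L), ExtStep.res (Zm f) F (q + 1) x = 0 := by
  obtain ⟨S, hS, hx⟩ := SiteZU.exists_sieve_comp_eq_zero x
  obtain ⟨N, _, _, _, _, f, hf⟩ := exists_galois_mem S hS
  exact ⟨N, _, _, _, inferInstance, f, hx _ _ hf⟩

/-- A class which dies over `N` (Galois over the base) is killed by the degree. -/
theorem exists_nsmul_of_res_zero (q : ℕ) (L N : Type u) [Field L] [Algebra K L] [FiniteDimensional K L]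
    [Algebra.IsSeparable K L] [Field N] [Algebra K N] [FiniteDimensional K N] [IsGalois K N]
    (f : etObj K N ⟶ etObj K L) (x : Ext (ZL K L) F q) (hx : ExtStep.res (Zm f) F q x = 0) :
    ∃ n : ℕ, 0 < n ∧ n • x = 0 := by
  obtain ⟨φ, rfl⟩ := exists_etMap_eq f
  let _ : Algebra L N := φ.toRingHom.toAlgebra
  have : IsScalarTower K L N := IsScalarTower.of_algebraMap_eq fun r => (φ.commutes r).symm
  have : FiniteDimensional L N := Module.Finite.right K L N
  have : IsGalois L N := IsGalois.tower_top_of_isGalois K L N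
  obtain ⟨t, ht⟩ := exists_transfer (K := K) (L := L) (L' := N) (M := N)
  exact ⟨Module.finrank L N, Module.finrank_pos, ExtStep.nsmul_eq_zero_of_transfer _ t _ ht F _ x hx⟩

/-- Every class of positive degree is torsion. -/
theorem exists_nsmul_ext (q : ℕ) (L : Type u) [Field L] [Algebra K L] [FiniteDimensional K L]
    [Algebra.IsSeparable K L] (x : Ext (ZL K L) F (q + 1)) : ∃ n : ℕ, 0 < n ∧ n • x = 0 := by
  obtain ⟨N, _, _, _, _, f, hf⟩ := exists_galois_res_zero F q L x
  exact exists_nsmul_of_res_zero F (q + 1) L N f x hf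

/-- A class over `K` which dies over the finite separable extension `L` is killed by `[L : K]`. -/
theorem nsmul_of_res_zero (q : ℕ) (L : Type u) [Field L] [Algebra K L] [FiniteDimensional K L]
    [Algebra.IsSeparable K L] (x : Ext (ZL K K) F q) (hx : ExtStep.res (Zm (can K K L)) F q x = 0) :
    Module.finrank K L • x = 0 := by
  obtain ⟨M, _, _, _, _, ⟨φ⟩, -⟩ := exists_galois (K := K) L L
  let _ : Algebra L M := φ.toRingHom.toAlgebra
  have : IsScalarTower K L M := IsScalarTower.of_algebraMap_eq fun r => (φ.commutes r).symm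
  obtain ⟨t, ht⟩ := exists_transfer (K := K) (L := K) (L' := L) (M := M)
  exact ExtStep.nsmul_eq_zero_of_transfer _ t _ ht F _ x hx

/-- Cohomology of positive degree is torsion. -/
theorem exists_nsmul_H (q : ℕ) (x : EtCoh.H (Spec (CommRingCat.of K)) F (q + 1)) :
    ∃ n : ℕ, 0 < n ∧ n • x = 0 := by
  obtain ⟨n, hn, h⟩ := exists_nsmul_ext F q K (EtFieldH.HEquiv F (q + 1) x)
  refine ⟨n, hn, (EtFieldH.HEquiv F (q + 1)).injective ?_⟩
  rw [map_nsmul, h, map_zero]

section One

variable (L : Type u) [Field L] [Algebra K L] [FiniteDimensional K L] [Algebra.IsSeparable K L]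

variable {F} in
/-- `F(L) → Q(L)` is onto for `F → Q` epi when the sections of `F` do not grow over `L`. -/
theorem exists_lift_hom {Q : EtCoh.Ab (Spec (CommRingCat.of K))} (c : F ⟶ Q) [Epi c]
    (hs : ∀ (N : Type u) [Field N] [Algebra K N] [FiniteDimensional K N] [IsGalois K N]
      (f : etObj K N ⟶ etObj K L), Function.Surjective (F.obj.map f.op)) (y : ZL K L ⟶ Q) :
    ∃ z : ZL K L ⟶ F, z ≫ c = y := by
  have hloc : Sheaf.IsLocallySurjective c := (Sheaf.isLocallySurjective_iff_epi' _ c).mpr inferInstance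
  have hR := Presheaf.imageSieve_mem (Spec (CommRingCat.of K)).smallEtaleTopology c.hom (U := op (etObj K L))
    (SiteZU.ev y)
  obtain ⟨N, _, _, _, _, f, ⟨b, hb⟩⟩ := exists_galois_mem _ hR
  obtain ⟨a, rfl⟩ := hs N f b
  refine ⟨SiteZU.lift a, ?_⟩
  rw [← cancel_epi (Zm f)]
  apply SiteZU.ev_injective
  rw [SiteZU.ev_map_comp, SiteZU.ev_map_comp, SiteZU.ev_comp, SiteZU.ev_lift, ← hb]
  exact (ConcreteCategory.congr_hom (c.hom.naturality f.op) a).symm

/-- `t` kills `H¹(L, F)`. -/
theorem nsmul_ext_one (t : ℕ)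
    (hs : ∀ (N : Type u) [Field N] [Algebra K N] [FiniteDimensional K N] [IsGalois K N]
      (f : etObj K N ⟶ etObj K L), Function.Surjective (F.obj.map f.op))
    (ht : ∀ (N : Type u) [Field N] [Algebra K N] [FiniteDimensional K N] [IsGalois K N]
      (s : F.obj.obj (op (etObj K N))), IsOfFinAddOrder s → t • s = 0) (x : Ext (ZL K L) F 1) : t • x = 0 := by
  obtain ⟨n, hn, hnx⟩ := exists_nsmul_ext F 0 L x
  -- factor through the image
  obtain ⟨I, e, m, _, _, hem⟩ : ∃ (I : EtCoh.Ab (Spec (CommRingCat.of K))) (e : F ⟶ I) (m : I ⟶ F)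
      (_ : Epi e) (_ : Mono m), e ≫ m = n • 𝟙 F :=
    ⟨Abelian.image (n • 𝟙 F), Abelian.factorThruImage _, Abelian.image.ι _, inferInstance, inferInstance,
      Abelian.image.fac _⟩
  have hS₁ : (ShortComplex.mk m (cokernel.π m) (cokernel.condition m)).ShortExact :=
    { exact := ShortComplex.exact_of_g_is_cokernel _ (cokernelIsCokernel m) }
  have hS₂ : (ShortComplex.mk (kernel.ι e) e (kernel.condition e)).ShortExact :=
    { exact := ShortComplex.exact_of_f_is_kernel _ (kernelIsKernel e) }
  -- the image of x in the cohomology of the image vanishes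
  have h1 : K809.Les.mp (ZL K L) e 1 x = 0 := by
    have h2 : K809.Les.mp (ZL K L) m 1 (K809.Les.mp (ZL K L) e 1 x) = 0 := by
      rw [← K809.Les.mp_comp, hem, K809.Les.mp_nsmul_id]
      exact hnx
    obtain ⟨y, hy⟩ := (K809.Les.exact₁ (ZL K L) hS₁ 0 _).1 h2
    obtain ⟨y', rfl⟩ := (Ext.mk₀_bijective _ _).2 y
    obtain ⟨z, rfl⟩ := exists_lift_hom L (cokernel.π m) hs y'
    rw [← hy]
    have h3 : Ext.mk₀ (z ≫ cokernel.π m) = K809.Les.mp (ZL K L) (cokernel.π m) 0 (Ext.mk₀ z) := by
      rw [K809.Les.mp_apply, Ext.mk₀_comp_mk₀]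
    rw [h3]
    exact (K809.Les.exact₃ (ZL K L) hS₁ 0 _).2 ⟨_, rfl⟩
  obtain ⟨z, hz⟩ := (K809.Les.exact₂ (ZL K L) hS₂ 1 x).1 h1
  have hk : t • 𝟙 (kernel e) = 0 := by
    rw [← cancel_mono (kernel.ι e), zero_comp, Preadditive.nsmul_comp, id_comp]
    refine Sheaf.hom_ext (NatTrans.ext (funext fun V => AddCommGrpCat.ext fun s => ?_))
    obtain ⟨V⟩ := V
    refine sect_ext fun N _ _ _ _ b => ?_
    have h4 : F.obj.map b.op ((t • kernel.ι e).hom.app (op V) s) =
        t • (kernel.ι e).hom.app (op (etObj K N)) ((kernel e).obj.map b.op s) := by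
      have h5 := ConcreteCategory.congr_hom ((kernel.ι e).hom.naturality b.op) s
      have h6 : (t • kernel.ι e).hom.app (op V) s = t • (kernel.ι e).hom.app (op V) s := by
        have h7 : (t • kernel.ι e).hom = t • (kernel.ι e).hom := rfl
        rw [h7, NatTrans.app_nsmul]
        rfl
      rw [h6, map_nsmul]
      exact congrArg (fun w => t • w) h5.symm
    rw [h4]
    refine (ht N _ ?_).trans (map_zero _).symm
    rw [isOfFinAddOrder_iff_nsmul_eq_zero]
    refine ⟨n, hn, ?_⟩
    have h8 : kernel.ι e ≫ (n • 𝟙 F) = 0 := by rw [← hem, ← Category.assoc, kernel.condition, zero_comp]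
    have h9 := congrArg (fun (α : kernel e ⟶ F) => α.hom.app (op (etObj K N)) ((kernel e).obj.map b.op s)) h8
    have h10 : (kernel.ι e ≫ (n • 𝟙 F)).hom.app (op (etObj K N)) ((kernel e).obj.map b.op s) =
        n • (kernel.ι e).hom.app (op (etObj K N)) ((kernel e).obj.map b.op s) := by
      rw [Preadditive.comp_nsmul, comp_id]
      have h7 : (n • kernel.ι e).hom = n • (kernel.ι e).hom := rfl
      rw [h7, NatTrans.app_nsmul]
      rfl
    exact h10.symm.trans h9
  rw [← hz, ← map_nsmul, K809.Les.nsmul_eq_zero (ZL K L) hk, map_zero]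

/-- `H¹(K, F)` has finite exponent. -/
theorem exists_exponent (t : ℕ) (ht0 : 0 < t)
    (hs : ∀ (N : Type u) [Field N] [Algebra K N] [FiniteDimensional K N] [IsGalois K N]
      (f : etObj K N ⟶ etObj K L), Function.Surjective (F.obj.map f.op))
    (ht : ∀ (N : Type u) [Field N] [Algebra K N] [FiniteDimensional K N] [IsGalois K N]
      (s : F.obj.obj (op (etObj K N))), IsOfFinAddOrder s → t • s = 0) :
    ∃ n : ℕ, 0 < n ∧ ∀ x : EtCoh.H (Spec (CommRingCat.of K)) F 1, n • x = 0 := by
  refine ⟨Module.finrank K L * t, Nat.mul_pos Module.finrank_pos ht0, fun x => ?_⟩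
  apply (EtFieldH.HEquiv F 1).injective
  rw [map_nsmul, map_zero, mul_smul]
  refine nsmul_of_res_zero F 1 L _ ?_
  rw [map_nsmul]
  exact nsmul_ext_one F L t hs ht _

end One

end K773.EtExp
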