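import Groth.Agent.TateLoc.K773.ScdDual
import Groth.Agent.TateLoc.K809.CoreTwo
import Groth.Agent.TateGlob.K997.CartSh
import Groth.Agent.S13479
import Groth.Agent.GmDual.K778.DblSeq
import Groth.Agent.GmDual.K311.CoverEt

/-!
# Vanishing of `H^q(k, Ĝ)` in positive characteristic: devissage
-/

set_option autoImplicit false
universe u

open CategoryTheory MonoidalCategory CartesianMonoidalCategory MonObj GrpObj AlgebraicGeometry Limits Opposite
open TensorProduct
open Groth.Agent.Books.AffBridge Groth.Agent.Books.AffBridge2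
open K620.HopfSeq K620.HopfPow K620.HopfGa K620.Devissage

noncomputable section

namespace K773.ScdAsm

variable {k : Type u} [Field k]

/-- Devissage with the case of groups of multiplicative type. -/
theorem induct (P : ∀ (G : Over (Spec (CommRingCat.of k))) [GrpObj G] [IsCommMonObj G], Prop)
    (iso : IsoClosed P) (ext : ExtClosed P)
    (fin : ∀ (G : Over (Spec (CommRingCat.of k))) [GrpObj G] [IsCommMonObj G] [IsFinite G.hom], P G)
    (mult : ∀ (A : Type u) [CommRing A] [HopfAlgebra k A] [Coalgebra.IsCocomm k A] [Algebra.FiniteType k A],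
      SGA3b.IsMultTypeConst k A → P (SpecOver k A))
    (ga : P (Red.Ga (Spec (CommRingCat.of k))))
    (G : Over (Spec (CommRingCat.of k))) [GrpObj G] [IsCommMonObj G] [IsAffine G.left] [LocallyOfFiniteType G.hom] :
    P G := by
  obtain ⟨A, _, _, _, e, he, hft⟩ := exists_model G
  have hA : Algebra.FiniteType k A := hft inferInstance
  have he' : IsMonHom e.symm.hom := inferInstanceAs (IsMonHom e.inv)
  refine iso _ _ e.symm ?_
  obtain ⟨J, hJ, hM, -, B, _, _, φ, hφ, hJB, hU⟩ := Groth.Agent.S4130.result k A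
  have hB : Coalgebra.IsCocomm k B := isCocomm_of_injective φ hφ
  have hBf : Algebra.FiniteType k B := finiteType_of_injective φ hφ
  refine of_injective ext φ hφ J hJB (mult _ hM) ?_
  have hK : (RingHom.ker (BialgHom.id k B)).IsHopfIdeal k := isHopfIdeal_ker (BialgHom.id k B)
  exact of_equiv iso (quotKerEquiv (BialgHom.id k B) Function.surjective_id _ rfl)
    (of_unip iso ext fin ga B hU _ hK)

/-- Cohomology of the dual sheaf. -/
abbrev HD (G : Over (Spec (CommRingCat.of k))) [GrpObj G] [IsCommMonObj G] (q : ℕ) : Type (u + 1) :=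
  BigSite.H Scheme.fppfPrecoverage (Spec (CommRingCat.of k))
    (CGrpSh2.dualSh Scheme.fppfPrecoverage (CGrpSh.pts Scheme.fppfPrecoverage G)) q

/-- Finite groups. -/
theorem subsingleton_fin (hcd : EtCoh.CohDimLE (Spec (CommRingCat.of k)) 2) (G : Over (Spec (CommRingCat.of k)))
    [GrpObj G] [IsCommMonObj G] [IsFinite G.hom] (q : ℕ) (hq : 2 < q) : Subsingleton (HD G q) := by
  have h1 : Flat G.hom := K311.CoverEt.flat_of_field G.hom
  have h2 : LocallyOfFinitePresentation G.hom := inferInstance
  obtain ⟨D, gD, cD, hfin, -, -, ⟨e⟩⟩ := K997.CartSh.exists_dual G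
  have h3 := K809.CoreTwo.main k hcd D q hq
  exact (K809.Les.mpEquiv _ e q).symm.toEquiv.subsingleton

/-- Extensions in characteristic `p`. -/
theorem subsingleton_ext (p : ℕ) [Fact p.Prime] [CharP k p] (q : ℕ) : ExtClosed (k := k) fun G => Subsingleton (HD G q) := by
  intro G₁ G₂ G₃ _ _ _ _ _ _ _ _ _ _ _ _ f g _ _ w hex h₁ h₃
  have h := K778.DblSeq.shortExact_dual (QuotSh.J Scheme.fppfPrecoverage (Spec (CommRingCat.of k)))
    (CGrpSh2.Gm Scheme.fppfPrecoverage (Spec (CommRingCat.of k))) hex (Groth.Agent.S13479.result p k G₃)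
  exact K809.Les.subsingleton_mid _ h h₃ h₁

/-- **The devissage.** -/
theorem subsingleton (p : ℕ) [Fact p.Prime] [CharP k p] (hcd : EtCoh.CohDimLE (Spec (CommRingCat.of k)) 2) (q : ℕ)
    (hq : 2 < q)
    (hZ : ∀ (N : Type u) [Field N] [Algebra k N] [FiniteDimensional k N] [IsGalois k N],
      Subsingleton (EtCoh.H (Spec (CommRingCat.of N)) (EtCoh.const _ ℤ) q))
    (hGa : Subsingleton (BigSite.H Scheme.fppfPrecoverage (Spec (CommRingCat.of k))
      (CGrpSh2.dualSh Scheme.fppfPrecoverage (CGrpSh2.Ga Scheme.fppfPrecoverage (Spec (CommRingCat.of k)))) q))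
    (G : Over (Spec (CommRingCat.of k))) [GrpObj G] [IsCommMonObj G] [IsAffine G.left] [LocallyOfFiniteType G.hom] :
    Subsingleton (HD G q) := by
  refine induct (fun G => Subsingleton (HD G q)) ?_ (subsingleton_ext p q) ?_ ?_ hGa G
  · intro G H _ _ _ _ e he h
    exact (Perf.dualHEquiv e q).toEquiv.subsingleton
  · intro G _ _ _
    exact subsingleton_fin hcd G q hq
  · intro A _ _ _ _ hA
    exact ScdDual.subsingleton_mult k A hA q hZ (fun T hT => hcd T hT q hq) (fun T hT => hcd T hT (q + 1) (by omega))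

end K773.ScdAsm
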