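import Groth.Agent.TateLoc.K773.ScdUr
import Groth.Agent.S3484
import Groth.Agent.GalCoh.K445.FieldShift

/-!
# `cd_l (K ⊗ k̄) ≤ 1` for a henselian discretely valued field `K` with coefficient field `k`
-/

set_option autoImplicit false
universe u

open TensorProduct IsLocalRing AlgebraicGeometry CategoryTheory

noncomputable section

namespace K773.ScdCd

open K773.ScdUr

variable (R K k E : Type u) [CommRing R] [IsDomain R] [IsDiscreteValuationRing R] [Field k] [Algebra k R]
  [Field K] [Algebra R K] [IsFractionRing R K] [Algebra k K] [IsScalarTower k R K]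
  [Field E] [Algebra k E] [Algebra.IsAlgebraic k E]

/-- The structure map. -/
abbrev str : R ⊗[k] E →ₐ[R] K ⊗[k] E := Algebra.TensorProduct.map (Algebra.ofId R K) (AlgHom.id k E)

/-- `K ⊗ E` is an algebra over `R ⊗ E`. -/
@[reducible] def alg : Algebra (R ⊗[k] E) (K ⊗[k] E) := (str R K k E).toRingHom.toAlgebra

attribute [local instance] alg

theorem isLocalization : IsLocalization (Algebra.algebraMapSubmonoid (R ⊗[k] E) (nonZeroDivisors R)) (K ⊗[k] E) := by
  have h : IsScalarTower R (R ⊗[k] E) (K ⊗[k] E) := IsScalarTower.of_algebraMap_eq fun r => ((str R K k E).commutes r).symm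
  refine IsLocalization.tensorProduct_tensorProduct k E (nonZeroDivisors R) K ?_
  ext e
  change str R K k E (1 ⊗ₜ e) = 1 ⊗ₜ e
  rw [Algebra.TensorProduct.map_tmul, map_one]
  rfl

theorem isFractionRing (hres : Function.Bijective (algebraMap k (ResidueField R))) [IsDomain (R ⊗[k] E)] :
    IsFractionRing (R ⊗[k] E) (K ⊗[k] E) := by
  have h1 := isLocalization R K k E
  have hinj : Function.Injective (algebraMap R (R ⊗[k] E)) :=
    Algebra.TensorProduct.includeLeft_injective (S := R) (algebraMap k E).injective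
  obtain ⟨t, ht⟩ := IsDiscreteValuationRing.exists_irreducible R
  refine IsLocalization.of_le_of_exists_dvd (Algebra.algebraMapSubmonoid (R ⊗[k] E) (nonZeroDivisors R)) _ ?_ ?_
  · rintro _ ⟨r, hr, rfl⟩
    rw [mem_nonZeroDivisors_iff_ne_zero]
    intro h
    exact nonZeroDivisors.ne_zero hr ((map_eq_zero_iff _ hinj).1 h)
  · intro x hx
    obtain ⟨n, y, rfl, hy⟩ := exists_pow R k E hres t ht x (nonZeroDivisors.ne_zero hx)
    refine ⟨algebraMap R (R ⊗[k] E) (t ^ n), ⟨t ^ n, pow_mem (mem_nonZeroDivisors_of_ne_zero ht.ne_zero) n, rfl⟩, ?_⟩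
    rw [map_pow]
    exact hy.dvd_mul_right.1 dvd_rfl |>.trans dvd_rfl

variable [HenselianLocalRing R]

theorem main (hres : Function.Bijective (algebraMap k (ResidueField R))) [IsAlgClosed E] :
    IsField (K ⊗[k] E) ∧ ∀ l : ℕ, l.Prime → (l : k) ≠ 0 → Dix.CohDimLEAt (Spec (CommRingCat.of (K ⊗[k] E))) l 1 := by
  have h1 : IsDomain (R ⊗[k] E) := isDomain R k E hres
  have h2 : IsDiscreteValuationRing (R ⊗[k] E) := isDVR R k E hres
  have h3 := isFractionRing R K k E hres
  let fd : Field (K ⊗[k] E) := IsFractionRing.toField (R ⊗[k] E)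
  refine ⟨fd.toIsField, fun l hl hlk => ?_⟩
  have hint : Algebra.IsIntegral k E := Algebra.IsAlgebraic.isIntegral
  have hint2 : Algebra.IsIntegral R (R ⊗[k] E) := inferInstance
  obtain ⟨hh, -, -⟩ := Groth.Agent.S1964.result R (R ⊗[k] E)
  obtain ⟨e⟩ := nonempty_residueField R k E hres
  have hac : IsAlgClosed (ResidueField (R ⊗[k] E)) := IsAlgClosed.of_ringEquiv E _ e.symm
  have hne : (l : ResidueField (R ⊗[k] E)) ≠ 0 := by
    intro h
    have h4 : (l : E) = 0 := by rw [← map_natCast e, h, map_zero]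
    apply hlk
    apply (algebraMap k E).injective
    rw [map_natCast, h4, map_zero]
  have h5 := (Groth.Agent.S3484.result (R ⊗[k] E) (K ⊗[k] E) l hl (Or.inl hne)).1 0
  exact h5.1 fun F hF q hq => K445.FieldShift.subsingleton_H_of_isAlgClosed F hq

end K773.ScdCd
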