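import Groth.Agent.TateLoc.K773.ScdSh
import Groth.Agent.CurvesA.SiteZU

/-!
# The Lang sequence `0 ⟶ Eˣ ⟶ π_* G_m ⟶ π_* G_m ⟶ 0`
-/

set_option autoImplicit false
universe u

open CategoryTheory CategoryTheory.Limits AlgebraicGeometry Opposite TensorProduct
open scoped ZeroObject
open Groth.Agent.CurvesA Groth.Agent.CurvesA.EtFieldObj Groth.Agent.CurvesA.EtFieldDesc K826.AffHom K773.LangAlg K773.ScdSh

noncomputable section

namespace K773.ScdSeq

section local_

variable {K : Type u} [Field K]

/-- A sieve which contains, for every `Spec N ⟶ U`, some `Spec N' ⟶ Spec N ⟶ U` is covering. -/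
theorem mem_of_fields {U : (Spec (CommRingCat.of K)).Etale} (T : Sieve U)
    (hT : ∀ (N : Type u) [Field N] [Algebra K N] [FiniteDimensional K N] [Algebra.IsSeparable K N] (b : etObj K N ⟶ U),
      ∃ (N' : Type u) (_ : Field N') (_ : Algebra K N') (_ : FiniteDimensional K N') (_ : Algebra.IsSeparable K N')
        (f : etObj K N' ⟶ etObj K N), T (f ≫ b)) :
    T ∈ (Spec (CommRingCat.of K)).smallEtaleTopology U := by
  refine (Spec (CommRingCat.of K)).smallEtaleTopology.transitive (galSieve_mem K U) T ?_
  rintro V f ⟨N, _, _, _, _, _, a, b, rfl⟩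
  have : Algebra.IsSeparable K N := inferInstance
  obtain ⟨N', _, _, _, _, g, hg⟩ := hT N b
  rw [Sieve.pullback_comp]
  refine (Spec (CommRingCat.of K)).smallEtaleTopology.pullback_stable a ?_
  refine GrothendieckTopology.superset_covering _ ?_ (generate_etMap_mem g)
  rw [Sieve.generate_le_iff]
  rintro W h ⟨⟩
  exact hg

end local_

section seq

variable (k K E : Type u) [Field k] [Fintype k] [Field K] [Algebra k K] [Field E] [Algebra k E]

/-- The coefficients. -/
abbrev A : AddCommGrpCat.{u + 1} := AddCommGrpCat.of (ULift.{u + 1} (Additive Eˣ))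

/-- Constants as functions. -/
def cst (U : (X K).Etale) : E →+* Γ(P k K E U, ⊤) :=
  (gl (E := K ⊗[k] E) (ps k K E U)).comp (Algebra.TensorProduct.includeRight : E →ₐ[k] K ⊗[k] E).toRingHom

theorem tr_cst {U V : (X K).Etale} (f : V ⟶ U) (e : E) : (tr k K E f).appTop.hom (cst k K E U e) = cst k K E V e := by
  have h1 := RingHom.congr_fun (gl_comp (E := K ⊗[k] E) (tr k K E f) (ps k K E U)) (1 ⊗ₜ[k] e)
  refine h1.symm.trans ?_
  rw [tr_snd]
  rfl

theorem tP_cst (U : (X K).Etale) (e : E) : (tP k K E U).appTop.hom (cst k K E U e) = (cst k K E U e) ^ Fintype.card k := by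
  have h1 := RingHom.congr_fun (gl_comp (E := K ⊗[k] E) (tP k K E U) (ps k K E U)) (1 ⊗ₜ[k] e)
  refine h1.symm.trans ?_
  rw [tP_snd]
  refine (RingHom.congr_fun (gl_map (E := K ⊗[k] E) (F := K ⊗[k] E) (ps k K E U) (tB k K E).toRingHom) (1 ⊗ₜ[k] e)).trans ?_
  rw [← map_pow]
  rfl

/-- The map from the constant presheaf. -/
def ip : (Functor.const (X K).Etaleᵒᵖ).obj (A E) ⟶ (J k K E).obj where
  app U := AddCommGrpCat.ofHom
    { toFun := fun a => nu k K E (Units.map (cst k K E U.unop).toMonoidHom a.down.toMul)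
      map_zero' := by
        apply un_injective
        exact Units.ext (map_one (cst k K E U.unop))
      map_add' := fun a b => by
        apply un_injective
        exact Units.ext (map_mul (cst k K E U.unop) _ _) }
  naturality U V f := by
    ext a
    apply un_injective
    apply Units.ext
    exact (tr_cst k K E f.unop _).symm

theorem un_ip (U : (X K).Etale) (a : A E) :
    (un k K E ((ip k K E).app (op U) a) : Γ(P k K E U, ⊤)) = cst k K E U (a.down.toMul : Eˣ) := rfl

theorem ip_theta : ip k K E ≫ (theta k K E).hom = 0 := by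
  ext U a
  change (theta k K E).hom.app (op U.unop) ((ip k K E).app (op U.unop) a) = 0
  rw [theta_app, sub_eq_zero]
  apply un_injective
  apply Units.ext
  rw [un_nsmul, Units.val_pow_eq_pow_val, un_tau, un_ip, tP_cst]

/-- The complex of presheaves. -/
def SP : ShortComplex ((X K).Etaleᵒᵖ ⥤ AddCommGrpCat.{u + 1}) := ShortComplex.mk (ip k K E) (theta k K E).hom (ip_theta k K E)

variable [Algebra.IsAlgebraic k E]

theorem tE_bijective (L : Type u) [Field L] [Algebra k L] : Function.Bijective (tE k E L) := by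
  let e : L ⊗[k] E ≃ₐ[k] L ⊗[k] E := Algebra.TensorProduct.congr AlgEquiv.refl
    (FiniteField.frobeniusAlgEquivOfAlgebraic k E)
  have h : ∀ z, tE k E L z = e z := by
    intro z
    induction z with
    | zero => simp only [map_zero]
    | add x y hx hy => simp only [map_add, hx, hy]
    | tmul a b => rfl
  have h2 : (tE k E L : L ⊗[k] E → L ⊗[k] E) = e := funext h
  rw [h2]
  exact e.bijective

section field

variable (L : Type u) [Field L] [Algebra K L] [FiniteDimensional K L] [Algebra.IsSeparable K L]
  [Algebra k L] [IsScalarTower k K L]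

theorem kap_one_tmul (e : E) : kap k K E L (1 ⊗ₜ[k] e) = cst k K E (etObj K L) e := by
  rw [kap_tmul, map_one, one_mul]
  rfl

/-- Sections over `Spec L` as units of `L ⊗ E`. -/
theorem exists_unit (x : (J k K E).obj.obj (op (etObj K L))) :
    ∃ w : (L ⊗[k] E)ˣ, (un k K E x : Γ(P k K E (etObj K L), ⊤)) = kap k K E L w := by
  have hb := kap_bijective k K E L
  let e : L ⊗[k] E ≃+* Γ(P k K E (etObj K L), ⊤) := RingEquiv.ofBijective (kap k K E L) hb
  refine ⟨Units.map e.symm.toRingHom.toMonoidHom (un k K E x), ?_⟩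
  exact (e.apply_symm_apply _).symm

/-- Units of `L ⊗ E` as sections. -/
def ofUnit (w : (L ⊗[k] E)ˣ) : (J k K E).obj.obj (op (etObj K L)) :=
  nu k K E (Units.map (kap k K E L).toMonoidHom w)

theorem un_ofUnit (w : (L ⊗[k] E)ˣ) : (un k K E (ofUnit k K E L w) : Γ(P k K E (etObj K L), ⊤)) = kap k K E L w := rfl

/-- The kernel over a field. -/
theorem exists_of_theta_eq_zero (x : (J k K E).obj.obj (op (etObj K L)))
    (hx : (theta k K E).hom.app (op (etObj K L)) x = 0) : ∃ a : A E, (ip k K E).app (op (etObj K L)) a = x := by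
  obtain ⟨w, hw⟩ := exists_unit k K E L x
  rw [theta_app, sub_eq_zero] at hx
  have h1 := congrArg (fun y => (un k K E y : Γ(P k K E (etObj K L), ⊤))) hx
  simp only [un_nsmul, Units.val_pow_eq_pow_val, un_tau] at h1
  rw [hw, tP_kap, ← map_pow] at h1
  have h2 := (kap_bijective k K E L).1 h1
  rw [pow_card] at h2
  have h3 := (tE_bijective k E L).1 h2
  obtain ⟨e, he⟩ := LangAlg.ker k E L _ h3
  have he0 : e ≠ 0 := by
    rintro rfl
    have hnt : Nontrivial (L ⊗[k] E) :=
      Algebra.TensorProduct.nontrivial_of_algebraMap_injective_of_flat_left (R := k) L E (algebraMap k E).injective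
    exact w.ne_zero (by rw [he, TensorProduct.tmul_zero])
  refine ⟨ULift.up (Additive.ofMul (Units.mk0 e he0)), ?_⟩
  apply un_injective
  apply Units.ext
  rw [un_ip, hw, he, kap_one_tmul]
  rfl

/-- Local surjectivity over a field. -/
theorem exists_theta_eq (x : (J k K E).obj.obj (op (etObj K L))) :
    ∃ (L' : Type u) (_ : Field L') (_ : Algebra K L') (_ : FiniteDimensional K L') (_ : Algebra.IsSeparable K L')
      (f : etObj K L' ⟶ etObj K L) (y : (J k K E).obj.obj (op (etObj K L'))),
      (theta k K E).hom.app (op (etObj K L')) y = (J k K E).obj.map f.op x := by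
  obtain ⟨w, hw⟩ := exists_unit k K E L x
  have hb := tE_bijective k E L
  let e : L ⊗[k] E ≃+* L ⊗[k] E := RingEquiv.ofBijective (tE k E L).toRingHom hb
  let w' : (L ⊗[k] E)ˣ := Units.map e.symm.toRingHom.toMonoidHom w
  have hw' : tE k E L w' = w := e.apply_symm_apply _
  obtain ⟨L', _, _, _, _, _, _, v, hv⟩ := LangAlg.exists_lang k w'
  let _ : Algebra K L' := ((algebraMap L L').comp (algebraMap K L)).toAlgebra
  have : IsScalarTower K L L' := IsScalarTower.of_algebraMap_eq fun _ => rfl
  have : IsScalarTower k K L' := IsScalarTower.of_algebraMap_eq fun a => by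
    rw [IsScalarTower.algebraMap_apply k L L', IsScalarTower.algebraMap_apply k K L]
    rfl
  have hfin : FiniteDimensional K L' := FiniteDimensional.trans K L L'
  have hsep : Algebra.IsSeparable K L' := Algebra.IsSeparable.trans K L L'
  let φ : L →ₐ[K] L' := IsScalarTower.toAlgHom K L L'
  refine ⟨L', inferInstance, inferInstance, hfin, hsep, etMap φ, ofUnit k K E L' v, ?_⟩
  rw [theta_app, sub_eq_iff_eq_add]
  apply un_injective
  apply Units.ext
  rw [un_nsmul, Units.val_pow_eq_pow_val, un_ofUnit, un_add, Units.val_mul, un_map, un_tau, un_ofUnit, hw, tr_kap, tP_kap,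
    ← map_pow, ← map_mul]
  congr 1
  rw [pow_card, hv, map_mul]
  congr 1
  have h1 : ∀ z : L ⊗[k] E, tE k E L' (bcL k E (IsScalarTower.toAlgHom k L L') z) =
      bcL k E (φ.restrictScalars k) (tE k E L z) := by
    intro z
    induction z with
    | zero => simp only [map_zero]
    | add x y hx hy => simp only [map_add, hx, hy]
    | tmul a b => rfl
  rw [h1, hw']

/-- Injectivity over a field. -/
theorem ip_injective (a : A E) (ha : (ip k K E).app (op (etObj K L)) a = 0) : a = 0 := by
  have h1 := congrArg (fun y => (un k K E y : Γ(P k K E (etObj K L), ⊤))) ha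
  simp only [un_ip, un_zero] at h1
  rw [← kap_one_tmul, Units.val_one, ← map_one (kap k K E L)] at h1
  have h2 := (kap_bijective k K E L).1 h1
  have h3 : Function.Injective (Algebra.TensorProduct.includeRight : E →ₐ[k] L ⊗[k] E) :=
    Algebra.TensorProduct.includeRight_injective (algebraMap k L).injective
  have h4 : (a.down.toMul : Eˣ) = (1 : Eˣ) := Units.ext (h3 h2)
  exact ULift.ext _ _ (congrArg Additive.ofMul h4)

end field

/-- Local exactness at `J`. -/
theorem local_exact (U : (X K).Etale) (x : (J k K E).obj.obj (op U)) (hx : (theta k K E).hom.app (op U) x = 0) :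
    ∃ T ∈ (X K).smallEtaleTopology U, ∀ (V : (X K).Etale) (f : V ⟶ U), T f →
      ∃ y : A E, (ip k K E).app (op V) y = (J k K E).obj.map f.op x := by
  let T : Sieve U :=
    { arrows := fun V f => ∃ y : A E, (ip k K E).app (op V) y = (J k K E).obj.map f.op x
      downward_closed := by
        rintro V W f ⟨y, hy⟩ g
        refine ⟨y, ?_⟩
        rw [op_comp, Functor.map_comp]
        refine Eq.trans ?_ (congrArg ((J k K E).obj.map g.op) hy)
        exact ConcreteCategory.congr_hom ((ip k K E).naturality g.op) y }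
  refine ⟨T, mem_of_fields T fun N _ _ _ _ b => ?_, fun V f hf => hf⟩
  let _ : Algebra k N := ((algebraMap K N).comp (algebraMap k K)).toAlgebra
  have : IsScalarTower k K N := IsScalarTower.of_algebraMap_eq fun _ => rfl
  refine ⟨N, inferInstance, inferInstance, inferInstance, inferInstance, 𝟙 _, ?_⟩
  rw [Category.id_comp]
  obtain ⟨a, ha⟩ := exists_of_theta_eq_zero k K E N ((J k K E).obj.map b.op x) (by
    have h1 := ConcreteCategory.congr_hom ((theta k K E).hom.naturality b.op) x
    refine h1.trans ?_
    exact (congrArg ((J k K E).obj.map b.op) hx).trans (map_zero _))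
  exact ⟨a, ha⟩

/-- Local injectivity. -/
theorem local_inj (U : (X K).Etale) (x : A E) (hx : (ip k K E).app (op U) x = 0) :
    ∃ T ∈ (X K).smallEtaleTopology U, ∀ (V : (X K).Etale) (f : V ⟶ U), T f → x = 0 := by
  let T : Sieve U :=
    { arrows := fun V f => x = 0
      downward_closed := fun h _ => h }
  refine ⟨T, mem_of_fields T fun N _ _ _ _ b => ?_, fun V f hf => hf⟩
  let _ : Algebra k N := ((algebraMap K N).comp (algebraMap k K)).toAlgebra
  have : IsScalarTower k K N := IsScalarTower.of_algebraMap_eq fun _ => rfl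
  refine ⟨N, inferInstance, inferInstance, inferInstance, inferInstance, 𝟙 _, ?_⟩
  apply ip_injective k K E N
  have h1 := ConcreteCategory.congr_hom ((ip k K E).naturality b.op) x
  refine h1.trans ?_
  exact (congrArg ((J k K E).obj.map b.op) hx).trans (map_zero _)

instance epi_theta : Epi (theta k K E) := by
  rw [← Sheaf.isLocallySurjective_iff_epi']
  refine ⟨fun {U} x => ?_⟩
  refine mem_of_fields _ fun N _ _ _ _ b => ?_
  let _ : Algebra k N := ((algebraMap K N).comp (algebraMap k K)).toAlgebra
  have : IsScalarTower k K N := IsScalarTower.of_algebraMap_eq fun _ => rfl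
  obtain ⟨N', _, _, _, _, f, y, hy⟩ := exists_theta_eq k K E N ((J k K E).obj.map b.op x)
  refine ⟨N', inferInstance, inferInstance, inferInstance, inferInstance, f, y, ?_⟩
  refine hy.trans ?_
  change _ = (J k K E).obj.map (f ≫ b).op x
  rw [op_comp, Functor.map_comp]
  rfl

/-- **The Lang sequence.** -/
theorem exists_shortExact : ∃ (i : (constantSheaf (X K).smallEtaleTopology AddCommGrpCat.{u + 1}).obj (A E) ⟶ J k K E)
    (w : i ≫ theta k K E = 0), (ShortComplex.mk i (theta k K E) w).ShortExact := by
  let sh := presheafToSheaf (X K).smallEtaleTopology AddCommGrpCat.{u + 1}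
  let ε : sh.obj (J k K E).obj ≅ J k K E :=
    asIso ((sheafificationAdjunction (X K).smallEtaleTopology AddCommGrpCat.{u + 1}).counit.app (J k K E))
  have hε : sh.map (theta k K E).hom ≫ ε.hom = ε.hom ≫ theta k K E :=
    (sheafificationAdjunction (X K).smallEtaleTopology AddCommGrpCat.{u + 1}).counit.naturality (theta k K E)
  have h1 : ((SP k K E).map sh).Exact :=
    SiteZU.exact_map_presheafToSheaf.{u + 1} (J := (X K).smallEtaleTopology) (SP k K E)
      fun U x hx => local_exact k K E U x hx
  have h0 : Mono (sh.map (ip k K E)) := by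
    let S0 : ShortComplex ((X K).Etaleᵒᵖ ⥤ AddCommGrpCat.{u + 1}) :=
      ShortComplex.mk (0 : (0 : (X K).Etaleᵒᵖ ⥤ AddCommGrpCat.{u + 1}) ⟶ (Functor.const (X K).Etaleᵒᵖ).obj (A E))
        (ip k K E) zero_comp
    have h2 : (S0.map sh).Exact := by
      refine SiteZU.exact_map_presheafToSheaf.{u + 1} (J := (X K).smallEtaleTopology) S0 fun U x hx => ?_
      obtain ⟨T, hT, h⟩ := local_inj k K E U x hx
      refine ⟨T, hT, fun V f hf => ⟨0, ?_⟩⟩
      rw [map_zero]
      exact (h V f hf).symm
    have h3 : (S0.map sh).f = 0 := sh.map_zero _ _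
    exact ((S0.map sh).exact_iff_mono h3).1 h2
  let i : (constantSheaf (X K).smallEtaleTopology AddCommGrpCat.{u + 1}).obj (A E) ⟶ J k K E :=
    sh.map (ip k K E) ≫ ε.hom
  have w : i ≫ theta k K E = 0 := by
    change (sh.map (ip k K E) ≫ ε.hom) ≫ theta k K E = 0
    rw [Category.assoc, ← hε, ← Category.assoc, ← sh.map_comp, ip_theta, sh.map_zero, zero_comp]
  refine ⟨i, w, ?_⟩
  have hmono : Mono i := @mono_comp _ _ _ _ _ _ h0 _ _
  have hex : (ShortComplex.mk i (theta k K E) w).Exact := by
    refine ShortComplex.exact_of_iso ?_ h1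
    exact ShortComplex.isoMk (Iso.refl _) ε ε (Category.id_comp _) hε.symm
  exact { exact := hex }

end seq

end K773.ScdSeq
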