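import Groth.Agent.TateLoc.K773.ScdTors
import Groth.Agent.TateLoc.K773.ScdSeq
import Groth.Agent.TateLoc.K773.EtExp
import Groth.Agent.Etrest.HPush
import Groth.Agent.S3054
import Groth.Agent.S3246
import Groth.Agent.S7733
import Groth.Agent.S7734
import Groth.Agent.Etbc.H238.HilbStk
import Groth.Agent.TateLoc.K809.CoreTwo

/-!
# `H³(K, ℤ) = 0` for a field `K` of characteristic `p` containing the finite field `k` with `cd (K ⊗ k̄) ≤ 1`
-/

set_option autoImplicit false
universe u

open CategoryTheory CategoryTheory.Limits AlgebraicGeometry Opposite Abelian TensorProduct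
open K773.ScdSh K773.ScdSeq K773.ScdTors

noncomputable section

namespace K773.ScdMain

variable (k K E : Type u) [Field k] [Fintype k] [Field K] [Algebra k K] [Field E] [Algebra k E] [Algebra.IsAlgebraic k E]

/-- The covering is integral. -/
theorem isIntegralHom_pi : IsIntegralHom (ScdSh.pi k K E) := by
  have : Algebra.IsIntegral k E := Algebra.IsAlgebraic.isIntegral
  have h : Algebra.IsIntegral K (K ⊗[k] E) := inferInstance
  rw [ScdSh.pi, IsIntegralHom.SpecMap_iff]
  exact h.isIntegral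

theorem nonempty_H_J (n : ℕ) : Nonempty (EtCoh.H (Spec (CommRingCat.of (K ⊗[k] E))) (EtCoh.Gm _) n ≃+
    EtCoh.H (X K) (J k K E) n) := by
  have := isIntegralHom_pi k K E
  exact Groth.Agent.Etrest.HPush.nonempty_HPushEquiv (ScdSh.pi k K E) _ (fun q hq => Groth.Agent.S3054.result _ _ q hq) n

/-- `H²(K, Eˣ)` has no `l`-torsion. -/
theorem no_torsion (l : ℕ) (h1 : Subsingleton (EtCoh.H (Spec (CommRingCat.of (K ⊗[k] E))) (EtCoh.Gm _) 1))
    (h2 : ∀ y : EtCoh.H (Spec (CommRingCat.of (K ⊗[k] E))) (EtCoh.Gm _) 2, l • y = 0 → y = 0)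
    (y : EtCoh.H (X K) ((cS (X K)).obj (A E)) 2) (hy : l • y = 0) : y = 0 := by
  obtain ⟨i, w, hS⟩ := exists_shortExact k K E
  obtain ⟨e1⟩ := nonempty_H_J k K E 1
  obtain ⟨e2⟩ := nonempty_H_J k K E 2
  have h1' : Subsingleton (EtCoh.H (X K) (J k K E) 1) := e1.symm.toEquiv.subsingleton
  let O := (cS (X K)).obj (AddCommGrpCat.of (ULift.{u + 1, 0} ℤ))
  have h3 : K809.Les.mp O i 2 y = 0 := by
    have h4 : l • e2.symm (K809.Les.mp O i 2 y) = 0 := by
      rw [← map_nsmul, ← map_nsmul, hy, map_zero, map_zero]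
    exact e2.symm.injective ((h2 _ h4).trans (map_zero _).symm)
  obtain ⟨z, hz⟩ := (K809.Les.exact₁ O hS 1 y).1 h3
  have h5 : z = 0 := h1'.elim _ _
  rw [← hz, h5, map_zero]

/-- `H³(K, ℤ) = 0`. -/
theorem subsingleton_H3 (p : ℕ) [Fact p.Prime] [CharP K p]
    (h1 : Subsingleton (EtCoh.H (Spec (CommRingCat.of (K ⊗[k] E))) (EtCoh.Gm _) 1))
    (h2 : ∀ l : ℕ, l.Prime → l ≠ p → ∀ y : EtCoh.H (Spec (CommRingCat.of (K ⊗[k] E))) (EtCoh.Gm _) 2, l • y = 0 → y = 0)
    (hE : ∀ l : ℕ, l.Prime → l ≠ p → ∃ a : E, a ≠ 1 ∧ a ^ l = 1) :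
    Subsingleton (EtCoh.H (X K) (EtCoh.const (X K) ℤ) 3) := by
  refine K809.CoreTwo.subsingleton_of_torsion (fun x => Groth.Agent.S7743.result K _ 3 (by omega) x) fun l hl x hx => ?_
  have : Fact l.Prime := ⟨hl⟩
  by_cases h : l = p
  · subst h
    exact Groth.Agent.S7734.result K l 1 (fun F hF q hq x hx => Groth.Agent.S7733.result K l F hF q (by omega) x hx)
      _ 3 (by omega) x ⟨1, by rwa [pow_one]⟩
  · obtain ⟨a, ha, hal⟩ := hE l hl h
    have ha0 : a ≠ 0 := by
      rintro rfl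
      rw [zero_pow hl.ne_zero] at hal
      exact zero_ne_one hal
    refine eq_zero_of l (A E) (ULift.up (Additive.ofMul (Units.mk0 a ha0))) ?_ ?_ 2
      (no_torsion k K E l h1 (h2 l hl h)) x hx
    · apply ULift.down_injective
      change Additive.ofMul ((Units.mk0 a ha0) ^ l) = Additive.ofMul 1
      congr 1
      ext
      simpa using hal
    · intro h0
      have h1 : Additive.ofMul (Units.mk0 a ha0) = Additive.ofMul 1 := congrArg ULift.down h0
      have h2 : Units.mk0 a ha0 = 1 := Additive.ofMul.injective h1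
      exact ha (by simpa using congrArg Units.val h2)

/-- `Pic` of an Artinian ring. -/
theorem subsingleton_H1_Gm_artin (B : Type u) [CommRing B] [IsArtinianRing B] :
    Subsingleton (EtCoh.H (Spec (CommRingCat.of B)) (EtCoh.Gm _) 1) := by
  have h1 : Finite (Spec (CommRingCat.of B)) := inferInstanceAs (Finite (PrimeSpectrum B))
  have h2 : DiscreteTopology (Spec (CommRingCat.of B)) := inferInstanceAs (DiscreteTopology (PrimeSpectrum B))
  exact Groth.Agent.Etbc.H238.HilbStk.subsingleton_H1_Gm _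

/-- A `K`-scheme. -/
theorem invertibleOn (B : Type u) [CommRing B] [Algebra K B] (l : ℕ) (hl : (l : K) ≠ 0) :
    Dix.InvertibleOn (Spec (CommRingCat.of B)) l := by
  intro x h
  let f : K →+* (Spec (CommRingCat.of B)).residueField x :=
    ((Spec (CommRingCat.of B)).evaluation ⊤ x trivial).hom.comp
      ((Scheme.ΓSpecIso (CommRingCat.of B)).inv.hom.comp (algebraMap K B))
  have h1 : f (l : K) = 0 := by rw [map_natCast, h]
  exact hl ((map_eq_zero f).1 h1)

/-- The case where `K ⊗ E` is Artinian of cohomological dimension at most one. -/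
theorem subsingleton_H3' (p : ℕ) [Fact p.Prime] [CharP K p] [IsAlgClosed E] [IsArtinianRing (K ⊗[k] E)]
    (h2 : ∀ l : ℕ, l.Prime → l ≠ p → Dix.CohDimLEAt (Spec (CommRingCat.of (K ⊗[k] E))) l 1) :
    Subsingleton (EtCoh.H (X K) (EtCoh.const (X K) ℤ) 3) := by
  have hp : (p : E) = 0 := by
    have h1 : CharP k p := (algebraMap k K).charP (algebraMap k K).injective p
    rw [← map_natCast (algebraMap k E), CharP.cast_eq_zero, map_zero]
  have hlK : ∀ l : ℕ, l.Prime → l ≠ p → (l : K) ≠ 0 := by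
    intro l hl hlp h
    rw [CharP.cast_eq_zero_iff K p] at h
    exact hlp ((Nat.prime_dvd_prime_iff_eq Fact.out hl).1 h).symm
  refine subsingleton_H3 k K E p (subsingleton_H1_Gm_artin _) (fun l hl hlp y hy => ?_) fun l hl hlp => ?_
  · exact (Groth.Agent.S3246.result _ l hl 1 (h2 l hl hlp)).2 (invertibleOn K _ l (hlK l hl hlp)) 2 (by omega) y
      ⟨1, by rwa [pow_one]⟩
  · have hlE : NeZero (l : E) := ⟨by
      intro h
      apply hlK l hl hlp
      have : CharP E p := (CharP.charP_iff_prime_eq_zero Fact.out).2 hp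
      rw [CharP.cast_eq_zero_iff E p] at h
      rw [CharP.cast_eq_zero_iff K p]
      exact h⟩
    have : Fact l.Prime := ⟨hl⟩
    have : HasEnoughRootsOfUnity E l := inferInstance
    obtain ⟨ζ, hζ⟩ := HasEnoughRootsOfUnity.exists_primitiveRoot E l
    exact ⟨ζ, hζ.ne_one hl.one_lt, hζ.pow_eq_one⟩

end K773.ScdMain
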