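import Groth.Agent.TateLoc.K773.ScdCoef
import Groth.Agent.TateLoc.K773.ScdCd
import Groth.Agent.TateLoc.K773.ScdMain
import Groth.Agent.TateLoc.K59.CdLoc
import Groth.Agent.Etbc.H205.AlgExt

/-!
# `H³(N, ℤ) = 0` for finite extensions `N` of local fields of characteristic `p`
-/

set_option autoImplicit false
universe u

open IsLocalRing TensorProduct AlgebraicGeometry CategoryTheory ValuativeRel

noncomputable section

namespace K773.ScdLocal

/-- Cohomological dimension and finite morphisms. -/
theorem cdAt_of_finite {X Y : Scheme.{u}} (f : X ⟶ Y) [IsFinite f] {l d : ℕ} (h : Dix.CohDimLEAt Y l d) :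
    Dix.CohDimLEAt X l d := by
  intro F hF q hq
  obtain ⟨e⟩ := Groth.Agent.Etrest.HPush.nonempty_HPushEquiv_of_isFinite f F q
  have := h _ (Groth.Agent.Etbc.H205.AlgExt.isPrimaryTorsion_push f F hF) q hq
  exact e.toEquiv.subsingleton

/-- The case of a finite extension. -/
theorem subsingleton_ext (k K N E : Type u) [Field k] [Fintype k] [Field K] [Field N] [Algebra k K] [Algebra k N]
    [Algebra K N] [IsScalarTower k K N] [Field E] [Algebra k E] [FiniteDimensional K N] [Algebra.IsAlgebraic k E]
    [IsAlgClosed E] (p : ℕ) [Fact p.Prime] [CharP K p] (hf : IsField (K ⊗[k] E))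
    (hcd : ∀ l : ℕ, l.Prime → l ≠ p → Dix.CohDimLEAt (Spec (CommRingCat.of (K ⊗[k] E))) l 1) :
    Subsingleton (EtCoh.H (Spec (CommRingCat.of N)) (EtCoh.const _ ℤ) 3) := by
  have h1 : CharP N p := charP_of_injective_algebraMap (algebraMap K N).injective p
  have h2 : IsArtinianRing (N ⊗[k] E) := ScdCoef.isArtinianRing k K N E hf
  refine ScdMain.subsingleton_H3' k N E p fun l hl hlp => ?_
  have h3 : IsFinite (Spec.map (CommRingCat.ofHom (ScdCoef.mp k K N E).toRingHom)) := by
    rw [IsFinite.SpecMap_iff]
    exact ScdCoef.finite_mp k K N E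
  exact cdAt_of_finite (Spec.map (CommRingCat.ofHom (ScdCoef.mp k K N E).toRingHom)) (hcd l hl hlp)

/-- Henselian discretely valued fields with a finite coefficient field. -/
theorem subsingleton_of_coef (R K k N : Type u) [CommRing R] [IsDomain R] [IsDiscreteValuationRing R] [HenselianLocalRing R]
    [Field K] [Algebra R K] [IsFractionRing R K] [Field k] [Finite k] (s : k →+* R)
    (hs : Function.Bijective ((residue R).comp s)) (p : ℕ) [Fact p.Prime] [CharP K p]
    [Field N] [Algebra K N] [FiniteDimensional K N] :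
    Subsingleton (EtCoh.H (Spec (CommRingCat.of N)) (EtCoh.const _ ℤ) 3) := by
  let _ := Fintype.ofFinite k
  let _ : Algebra k R := s.toAlgebra
  let _ : Algebra k K := ((algebraMap R K).comp s).toAlgebra
  have h1 : IsScalarTower k R K := IsScalarTower.of_algebraMap_eq fun _ => rfl
  let _ : Algebra k N := ((algebraMap K N).comp ((algebraMap R K).comp s)).toAlgebra
  have h2 : IsScalarTower k K N := IsScalarTower.of_algebraMap_eq fun _ => rfl
  have hres : Function.Bijective (algebraMap k (ResidueField R)) := hs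
  obtain ⟨h3, h4⟩ := ScdCd.main R K k (AlgebraicClosure k) hres
  refine subsingleton_ext k K N (AlgebraicClosure k) p h3 fun l hl hlp => h4 l hl fun h0 => hlp ?_
  have h5 : (l : K) = 0 := by rw [← map_natCast (algebraMap k K), h0, map_zero]
  rw [CharP.cast_eq_zero_iff K p] at h5
  exact ((Nat.prime_dvd_prime_iff_eq Fact.out hl).1 h5).symm

/-- Local fields of characteristic `p`. -/
theorem subsingleton_local (K N : Type u) [Field K] [ValuativeRel K] [TopologicalSpace K] [IsNonarchimedeanLocalField K]
    (p : ℕ) [Fact p.Prime] [CharP K p] [Field N] [Algebra K N] [FiniteDimensional K N] :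
    Subsingleton (EtCoh.H (Spec (CommRingCat.of N)) (EtCoh.const _ ℤ) 3) := by
  have h1 : CharP 𝒪[K] p := (CharP.charP_iff_prime_eq_zero Fact.out).2 (by
    apply IsFractionRing.injective 𝒪[K] K
    rw [map_natCast, map_zero, CharP.cast_eq_zero])
  obtain ⟨s, hs⟩ := ScdCoef.exists_section 𝒪[K] p
  refine subsingleton_of_coef 𝒪[K] K 𝓀[K] N s ?_ p
  have h2 : (residue 𝒪[K]).comp s = RingHom.id _ := RingHom.ext hs
  rw [h2]
  exact Function.bijective_id

end K773.ScdLocal
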