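import Groth.Agent.PrincBund.K826.AffHom
import Groth.Agent.GaDual.K771.HomEv
import Groth.Agent.GaDual.K771.Pts
import Groth.Agent.Sga3A.GLBasic
import Mathlib.RingTheory.HopfAlgebra.GroupLike

/-!
# Sections of the dual sheaf of an affine commutative group scheme over affine objects

`A` a commutative and cocommutative Hopf algebra over the commutative ring `k`, `G = Spec A`.  For a `k`-algebra `R`
the sections of `Ĝ = 𝓗om(G, 𝔾_m)` over `Spec R` are the group-like elements of the `R`-Hopf algebra `R ⊗ A`: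
`ch φ`, `ofGL χ hχ`, `gm_ev`, `isGroupLike_ch`, `ch_r`, `ch_injective`.
-/

set_option autoImplicit false
universe u

open CategoryTheory MonoidalCategory CartesianMonoidalCategory MonObj GrpObj AlgebraicGeometry Limits Opposite
open TensorProduct WithConv
open Groth.Agent.Books.AffBridge Groth.Agent.Etdl.H432.Sec
open K826.AffHom

noncomputable section

namespace K773.CharSec

section prod2

variable {k B C E : Type*} [CommRing k] [CommRing B] [CommRing C] [CommRing E] [Algebra k B] [Algebra k C]

/-- The map out of a tensor product given by two ring maps. -/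
def prod2 (f : B →+* E) (g : C →+* E) (h : f.comp (algebraMap k B) = g.comp (algebraMap k C)) :
    B ⊗[k] C →+* E :=
  letI : Algebra k E := (f.comp (algebraMap k B)).toAlgebra
  (Algebra.TensorProduct.productMap
    ({ f with commutes' := fun _ => rfl } : B →ₐ[k] E)
    ({ g with commutes' := fun r => (RingHom.congr_fun h r).symm } : C →ₐ[k] E)).toRingHom

@[simp] theorem prod2_tmul (f : B →+* E) (g : C →+* E) (h : f.comp (algebraMap k B) = g.comp (algebraMap k C))
    (b : B) (c : C) : prod2 f g h (b ⊗ₜ[k] c) = f b * g c := rfl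

theorem tensor_hom_ext {F G : B ⊗[k] C →+* E} (h1 : ∀ b, F (b ⊗ₜ[k] 1) = G (b ⊗ₜ[k] 1))
    (h2 : ∀ c, F ((1 : B) ⊗ₜ[k] c) = G ((1 : B) ⊗ₜ[k] c)) : F = G := by
  refine RingHom.ext fun x => ?_
  induction x using TensorProduct.induction_on with
  | zero => rw [map_zero, map_zero]
  | tmul b c =>
    have h3 : b ⊗ₜ[k] c = (b ⊗ₜ[k] (1 : C)) * ((1 : B) ⊗ₜ[k] c) := by
      rw [Algebra.TensorProduct.tmul_mul_tmul, _root_.mul_one, _root_.one_mul]
    rw [h3, map_mul, map_mul, h1, h2]
  | add x y hx hy => rw [map_add, map_add, hx, hy]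

end prod2

variable {k : Type u} [CommRing k]

/-- The structure algebra on the functions. -/
@[reducible] def algΓ (T : Over (Spec (CommRingCat.of k))) : Algebra k (O T) := (str T).toAlgebra

variable {A R : Type u} [CommRing A] [CommRing R] [Algebra k R]

theorem glob_comp_algebraMap [Algebra k A] {W : Over (Spec (CommRingCat.of k))} (h : W ⟶ SpecOver k R)
    (x : W ⟶ SpecOver k A) :
    (glob h).comp (algebraMap k R) = (glob x).comp (algebraMap k A) :=
  (glob_algebraMap h).trans (glob_algebraMap x).symm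

/-- The map `R ⊗ A → O W` attached to a pair of points. -/
def pr [Algebra k A] {W : Over (Spec (CommRingCat.of k))} (h : W ⟶ SpecOver k R) (x : W ⟶ SpecOver k A) :
    R ⊗[k] A →+* O W :=
  prod2 (glob h) (glob x) (glob_comp_algebraMap h x)

theorem pr_tmul [Algebra k A] {W : Over (Spec (CommRingCat.of k))} (h : W ⟶ SpecOver k R)
    (x : W ⟶ SpecOver k A) (r : R) (a : A) : pr h x (r ⊗ₜ[k] a) = glob h r * glob x a := rfl

theorem pr_comp [Algebra k A] {W W' : Over (Spec (CommRingCat.of k))} (g : W' ⟶ W) (h : W ⟶ SpecOver k R)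
    (x : W ⟶ SpecOver k A) : pr (g ≫ h) (g ≫ x) = (ro g).comp (pr h x) := by
  refine tensor_hom_ext (fun r => ?_) (fun a => ?_)
  · rw [pr_tmul, RingHom.comp_apply, pr_tmul, glob_comp, glob_comp, map_mul]
    rfl
  · rw [pr_tmul, RingHom.comp_apply, pr_tmul, glob_comp, glob_comp, map_mul]
    rfl

section mul

variable [HopfAlgebra k A]

/-- The functions of a product of points. -/
theorem glob_mul {W : Over (Spec (CommRingCat.of k))} (x y : W ⟶ SpecOver k A) (a : A) :
    glob (x * y) a = prod2 (glob x) (glob y) ((glob_algebraMap x).trans (glob_algebraMap y).symm)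
      (Coalgebra.comul (R := k) a) := by
  let _ := algΓ W
  obtain ⟨j, hj⟩ := exists_glob (E := O W) (T := W) (RingHom.id (O W)) rfl
  let gx : A →ₐ[k] O W := { glob x with commutes' := fun r => RingHom.congr_fun (glob_algebraMap x) r }
  let gy : A →ₐ[k] O W := { glob y with commutes' := fun r => RingHom.congr_fun (glob_algebraMap y) r }
  have hx : x = j ≫ specMap k gx := by
    apply glob_injective
    rw [glob_specMap, hj]
    rfl
  have hy : y = j ≫ specMap k gy := by
    apply glob_injective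
    rw [glob_specMap, hj]
    rfl
  have h1 : x * y = j ≫ specMap k (toConv gx * toConv gy).ofConv := by
    rw [specMap_mul, MonObj.comp_mul, ← hx, ← hy]
  have h2 : glob (x * y) = ((toConv gx * toConv gy).ofConv : A →ₐ[k] O W).toRingHom := by
    rw [h1, glob_specMap, hj]
    rfl
  rw [h2]
  change (toConv gx * toConv gy).ofConv a = _
  rw [AlgHom.convMul_def]
  have h3 : ∀ z : A ⊗[k] A, Algebra.TensorProduct.lmul' k (Algebra.TensorProduct.map gx gy z) =
      prod2 (glob x) (glob y) ((glob_algebraMap x).trans (glob_algebraMap y).symm) z := by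
    intro z
    induction z using TensorProduct.induction_on with
    | zero => rw [map_zero, map_zero, map_zero]
    | tmul b c => rfl
    | add z w hz hw => rw [map_add, map_add, map_add, hz, hw]
  exact h3 _

theorem pr_algebraMap {W : Over (Spec (CommRingCat.of k))} (h : W ⟶ SpecOver k R)
    (x : W ⟶ SpecOver k A) (r : R) : pr h x (algebraMap R (R ⊗[k] A) r) = glob h r := by
  rw [Algebra.TensorProduct.algebraMap_apply, Algebra.algebraMap_self_apply, pr_tmul, map_one, _root_.mul_one]

/-- Multiplicativity of the evaluation maps. -/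
theorem pr_mul {W : Over (Spec (CommRingCat.of k))} (h : W ⟶ SpecOver k R) (x y : W ⟶ SpecOver k A)
    (χ : R ⊗[k] A) :
    pr h (x * y) χ = prod2 (k := R) (pr h x) (pr h y)
      (RingHom.ext fun r => (pr_algebraMap h x r).trans (pr_algebraMap h y r).symm)
      (Coalgebra.comul (R := R) χ) := by
  set P := prod2 (k := R) (pr h x) (pr h y)
      (RingHom.ext fun r => (pr_algebraMap h x r).trans (pr_algebraMap h y r).symm) with hP
  have key : pr h (x * y) = P.comp (Bialgebra.comulAlgHom R (R ⊗[k] A)).toRingHom := by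
    refine tensor_hom_ext (fun r => ?_) (fun a => ?_)
    · have h1 : r ⊗ₜ[k] (1 : A) = algebraMap R (R ⊗[k] A) r := by
        rw [Algebra.TensorProduct.algebraMap_apply, Algebra.algebraMap_self_apply]
      rw [h1, pr_algebraMap]
      change _ = P (Bialgebra.comulAlgHom R (R ⊗[k] A) (algebraMap R (R ⊗[k] A) r))
      rw [AlgHom.commutes, Algebra.TensorProduct.algebraMap_apply, hP, prod2_tmul, map_one, _root_.mul_one,
        pr_algebraMap]
    · rw [pr_tmul, map_one, _root_.one_mul, glob_mul]
      change _ = P (Coalgebra.comul (R := R) ((1 : R) ⊗ₜ[k] a))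
      rw [Groth.Agent.Sga3A.GLBasic.comul_one_tmul]
      have h3 : ∀ z : A ⊗[k] A, prod2 (glob x) (glob y) ((glob_algebraMap x).trans (glob_algebraMap y).symm) z =
          P (TensorProduct.AlgebraTensorModule.distribBaseChange k R A A ((1 : R) ⊗ₜ[k] z)) := by
        intro z
        induction z using TensorProduct.induction_on with
        | zero => rw [TensorProduct.tmul_zero, map_zero, map_zero, map_zero]
        | tmul b c =>
          have h4 : TensorProduct.AlgebraTensorModule.distribBaseChange k R A A ((1 : R) ⊗ₜ[k] (b ⊗ₜ[k] c)) =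
              ((1 : R) ⊗ₜ[k] b) ⊗ₜ[R] ((1 : R) ⊗ₜ[k] c) := by simp
          rw [h4, hP, prod2_tmul, prod2_tmul, pr_tmul, pr_tmul, map_one, _root_.one_mul, _root_.one_mul]
        | add z w hz hw => rw [TensorProduct.tmul_add, map_add, map_add, map_add, hz, hw]
      exact h3 _
  rw [key]
  rfl

theorem pr_mul_of_isGroupLike {W : Over (Spec (CommRingCat.of k))} (h : W ⟶ SpecOver k R)
    (x y : W ⟶ SpecOver k A) {χ : R ⊗[k] A} (hχ : IsGroupLikeElem R χ) :
    pr h (x * y) χ = pr h x χ * pr h y χ := by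
  rw [pr_mul, hχ.comul_eq_tmul_self, prod2_tmul]

theorem pr_one {W : Over (Spec (CommRingCat.of k))} (h : W ⟶ SpecOver k R) (χ : R ⊗[k] A) :
    pr h (1 : W ⟶ SpecOver k A) χ = glob h (Coalgebra.counit (R := R) χ) := by
  have key : pr h (1 : W ⟶ SpecOver k A) = (glob h).comp (Bialgebra.counitAlgHom R (R ⊗[k] A)).toRingHom := by
    refine tensor_hom_ext (fun r => ?_) (fun a => ?_)
    · have h1 : r ⊗ₜ[k] (1 : A) = algebraMap R (R ⊗[k] A) r := by
        rw [Algebra.TensorProduct.algebraMap_apply, Algebra.algebraMap_self_apply]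
      rw [h1, pr_algebraMap]
      change _ = glob h (Bialgebra.counitAlgHom R (R ⊗[k] A) (algebraMap R (R ⊗[k] A) r))
      rw [AlgHom.commutes, Algebra.algebraMap_self_apply]
    · rw [pr_tmul, map_one, _root_.one_mul]
      change _ = glob h (Coalgebra.counit (R := R) ((1 : R) ⊗ₜ[k] a))
      rw [Groth.Agent.Sga3A.GLBasic.counit_one_tmul]
      let _ := algΓ W
      obtain ⟨j, hj⟩ := exists_glob (E := O W) (T := W) (RingHom.id (O W)) rfl
      have h2 : (1 : W ⟶ SpecOver k A) = j ≫ specMap k (1 : WithConv (A →ₐ[k] O W)).ofConv := by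
        rw [specMap_one, MonObj.comp_one]
      rw [h2, glob_specMap, hj]
      have h3 : glob h (algebraMap k R (Coalgebra.counit (R := k) a)) = str W (Coalgebra.counit (R := k) a) :=
        RingHom.congr_fun (glob_algebraMap h) _
      rw [h3, AlgHom.convOne_def]
      rfl
  rw [key]
  rfl

end mul

section dual

open K771.HomEv K771.Pts

variable (k A) in
/-- The sheaf of points of `Spec A`. -/
abbrev GA [HopfAlgebra k A] [IsCommMonObj (SpecOver k A)] : EtFppf.AbF (Spec (CommRingCat.of k)) :=
  CGrpSh.pts Scheme.fppfPrecoverage (SpecOver k A)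

variable [HopfAlgebra k A] [IsCommMonObj (SpecOver k A)]

/-- A point as a section. -/
def pt {W : Over (Spec (CommRingCat.of k))} (x : W ⟶ SpecOver k A) : Γs (GA k A) W :=
  ULift.up (Additive.ofMul x)

theorem exists_pt {W : Over (Spec (CommRingCat.of k))} (s : Γs (GA k A) W) : ∃ x, s = pt x :=
  ⟨Additive.toMul (ULift.down s), rfl⟩

theorem r_pt {W W' : Over (Spec (CommRingCat.of k))} (g : W' ⟶ W) (x : W ⟶ SpecOver k A) :
    r (GA k A) g (pt x) = pt (g ≫ x) := rfl

theorem pt_mul {W : Over (Spec (CommRingCat.of k))} (x y : W ⟶ SpecOver k A) : pt (x * y) = pt x + pt y := rfl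

theorem pt_one {W : Over (Spec (CommRingCat.of k))} : pt (1 : W ⟶ SpecOver k A) = 0 := rfl

/-- Functions on `Spec E`. -/
def gE (E : Type u) [CommRing E] [Algebra k E] : E ≃+* O (SpecOver k E) :=
  (Scheme.ΓSpecIso (CommRingCat.of E)).symm.commRingCatIsoToRingEquiv

omit [HopfAlgebra k A] [IsCommMonObj (SpecOver k A)] in
theorem glob_eq {E : Type u} [CommRing E] [Algebra k E] {W : Over (Spec (CommRingCat.of k))}
    (g : W ⟶ SpecOver k E) (z : E) : glob g z = ro g (gE E z) := rfl

omit [HopfAlgebra k A] [IsCommMonObj (SpecOver k A)] in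
theorem exists_pair [Algebra k A] {W : Over (Spec (CommRingCat.of k))} (h : W ⟶ SpecOver k R)
    (x : W ⟶ SpecOver k A) : ∃ j : W ⟶ SpecOver k (R ⊗[k] A), glob j = pr h x ∧
      j ≫ specMap k (Algebra.TensorProduct.includeLeft : R →ₐ[k] R ⊗[k] A) = h ∧
      j ≫ specMap k (Algebra.TensorProduct.includeRight : A →ₐ[k] R ⊗[k] A) = x := by
  obtain ⟨j, hj⟩ := exists_glob (E := R ⊗[k] A) (T := W) (pr h x) (by
    refine RingHom.ext fun c => ?_
    rw [RingHom.comp_apply, Algebra.TensorProduct.algebraMap_apply, pr_tmul, map_one, _root_.mul_one]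
    exact RingHom.congr_fun (glob_algebraMap h) c)
  refine ⟨j, hj, ?_, ?_⟩
  · apply glob_injective
    rw [glob_specMap, hj]
    refine RingHom.ext fun c => ?_
    change pr h x (c ⊗ₜ[k] (1 : A)) = _
    rw [pr_tmul, map_one, _root_.mul_one]
  · apply glob_injective
    rw [glob_specMap, hj]
    refine RingHom.ext fun c => ?_
    change pr h x ((1 : R) ⊗ₜ[k] c) = _
    rw [pr_tmul, map_one, _root_.one_mul]

/-- The group-like element attached to a character over `Spec R`. -/
def ch (φ : Γs (hom (GA k A) (Gm _)) (SpecOver k R)) : R ⊗[k] A :=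
  (gE (k := k) (R ⊗[k] A)).symm
    (gm (ev φ (specMap k (Algebra.TensorProduct.includeLeft : R →ₐ[k] R ⊗[k] A))
      (pt (specMap k (Algebra.TensorProduct.includeRight : A →ₐ[k] R ⊗[k] A)))))

theorem gm_ev (φ : Γs (hom (GA k A) (Gm _)) (SpecOver k R)) {W : Over (Spec (CommRingCat.of k))}
    (h : W ⟶ SpecOver k R) (x : W ⟶ SpecOver k A) : gm (ev φ h (pt x)) = pr h x (ch φ) := by
  obtain ⟨j, hj, h1, h2⟩ := exists_pair h x
  rw [← hj, glob_eq, ch, RingEquiv.apply_symm_apply, ← gm_r, ev_r', r_pt, h1, h2]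

theorem ch_injective : Function.Injective (ch : Γs (hom (GA k A) (Gm _)) (SpecOver k R) → R ⊗[k] A) := by
  intro φ ψ h
  refine ev_ext fun W g s => gm_injective ?_
  obtain ⟨x, rfl⟩ := exists_pt s
  rw [gm_ev, gm_ev, h]

omit [HopfAlgebra k A] [IsCommMonObj (SpecOver k A)] in
/-- Elements of `R ⊗ A` are determined by their values at points. -/
theorem pr_ext [Algebra k A] {χ ψ : R ⊗[k] A}
    (h : ∀ (W : Over (Spec (CommRingCat.of k))) (g : W ⟶ SpecOver k R) (x : W ⟶ SpecOver k A),
      pr g x χ = pr g x ψ) : χ = ψ := by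
  have h1 := h _ (specMap k (Algebra.TensorProduct.includeLeft : R →ₐ[k] R ⊗[k] A))
    (specMap k (Algebra.TensorProduct.includeRight : A →ₐ[k] R ⊗[k] A))
  have h2 : ∀ z : R ⊗[k] A, pr (specMap k (Algebra.TensorProduct.includeLeft : R →ₐ[k] R ⊗[k] A))
      (specMap k (Algebra.TensorProduct.includeRight : A →ₐ[k] R ⊗[k] A)) z = gE (k := k) (R ⊗[k] A) z := by
    intro z
    obtain ⟨j, hj, hl, hr⟩ := exists_pair (specMap k (Algebra.TensorProduct.includeLeft : R →ₐ[k] R ⊗[k] A))
      (specMap k (Algebra.TensorProduct.includeRight : A →ₐ[k] R ⊗[k] A))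
    obtain ⟨f, rfl⟩ : ∃ f : R ⊗[k] A →ₐ[k] R ⊗[k] A, specMap k f = j := ⟨specPreimage k j, specMap_specPreimage k j⟩
    have hf : f = AlgHom.id k _ := by
      rw [← specMap_comp] at hl hr
      have hl' := specMap_injective k hl
      have hr' := specMap_injective k hr
      refine Algebra.TensorProduct.ext ?_ ?_
      · exact hl'
      · exact hr'
    subst hf
    rw [← hj]
    have h3 : specMap k (AlgHom.id k (R ⊗[k] A)) = 𝟙 _ := by
      ext1
      exact Spec.map_id _
    rw [h3, glob_eq, ro_id]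
  rw [h2, h2] at h1
  exact (gE (k := k) (R ⊗[k] A)).injective h1

theorem ch_eq {φ : Γs (hom (GA k A) (Gm _)) (SpecOver k R)} {χ : R ⊗[k] A}
    (h : ∀ (W : Over (Spec (CommRingCat.of k))) (g : W ⟶ SpecOver k R) (x : W ⟶ SpecOver k A),
      gm (ev φ g (pt x)) = pr g x χ) : ch φ = χ :=
  pr_ext fun W g x => by rw [← gm_ev, h]

theorem ch_zero : ch (0 : Γs (hom (GA k A) (Gm _)) (SpecOver k R)) = 1 :=
  ch_eq fun W g x => by rw [ev_zero, gm_zero, map_one]

theorem ch_add (φ ψ : Γs (hom (GA k A) (Gm _)) (SpecOver k R)) : ch (φ + ψ) = ch φ * ch ψ :=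
  ch_eq fun W g x => by rw [ev_add, gm_add, gm_ev, gm_ev, map_mul]

theorem ch_nsmul (n : ℕ) (φ : Γs (hom (GA k A) (Gm _)) (SpecOver k R)) : ch (n • φ) = ch φ ^ n := by
  induction n with
  | zero => rw [zero_smul, pow_zero, ch_zero]
  | succ n ih => rw [succ_nsmul, ch_add, ih, pow_succ]

/-- The base change map on `R ⊗ A`. -/
abbrev bcR {R' : Type u} [CommRing R'] [Algebra k R'] (f : R →ₐ[k] R') : R ⊗[k] A →ₐ[k] R' ⊗[k] A :=
  Algebra.TensorProduct.map f (AlgHom.id k A)

theorem ch_r {R' : Type u} [CommRing R'] [Algebra k R'] (f : R →ₐ[k] R')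
    (φ : Γs (hom (GA k A) (Gm _)) (SpecOver k R)) :
    ch (r (hom (GA k A) (Gm _)) (specMap k f) φ) = bcR f (ch φ) := by
  refine ch_eq fun W g x => ?_
  rw [ev_r, gm_ev]
  have h1 : pr (g ≫ specMap k f) x = (pr g x).comp (bcR f : R ⊗[k] A →ₐ[k] R' ⊗[k] A).toRingHom := by
    refine tensor_hom_ext (fun c => ?_) (fun a => ?_)
    · rw [pr_tmul, glob_specMap]
      change glob g (f c) * _ = pr g x (bcR f (c ⊗ₜ[k] (1 : A)))
      rw [Algebra.TensorProduct.map_tmul, pr_tmul, map_one, map_one, map_one]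
    · rw [pr_tmul, map_one]
      change _ = pr g x (bcR f ((1 : R) ⊗ₜ[k] a))
      rw [Algebra.TensorProduct.map_tmul, pr_tmul, map_one, map_one]
      rfl
  rw [h1]
  rfl

/-- The element attached to a character is group-like. -/
theorem isGroupLike_ch (φ : Γs (hom (GA k A) (Gm _)) (SpecOver k R)) : IsGroupLikeElem R (ch φ) := by
  refine ⟨?_, ?_⟩
  · have h1 := gm_ev φ (𝟙 _) (1 : SpecOver k R ⟶ SpecOver k A)
    rw [pt_one, map_zero, gm_zero, pr_one, glob_eq, ro_id] at h1
    exact (gE (k := k) R).injective (by rw [← h1, map_one])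
  · let H := R ⊗[k] A
    let Q := H ⊗[R] H
    let h0 : SpecOver k Q ⟶ SpecOver k R := specMap k (Algebra.ofId R Q |>.restrictScalars k)
    let iA : A →ₐ[k] H := Algebra.TensorProduct.includeRight
    let i1 : H →ₐ[k] Q := (Algebra.TensorProduct.includeLeft : H →ₐ[R] Q).restrictScalars k
    let i2 : H →ₐ[k] Q := (Algebra.TensorProduct.includeRight : H →ₐ[R] Q).restrictScalars k
    let x1 : SpecOver k Q ⟶ SpecOver k A := specMap k (i1.comp iA)
    let x2 : SpecOver k Q ⟶ SpecOver k A := specMap k (i2.comp iA)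
    have e1 : pr h0 x1 = (gE (k := k) Q : Q →+* _).comp i1.toRingHom := by
      refine tensor_hom_ext (fun c => ?_) (fun a => ?_)
      · rw [pr_tmul, map_one, _root_.mul_one]
        change glob (𝟙 _ ≫ h0) c = _
        rw [glob_specMap, RingHom.comp_apply, glob_eq, ro_id]
        rfl
      · rw [pr_tmul, map_one, _root_.one_mul]
        change glob (𝟙 _ ≫ x1) a = _
        rw [glob_specMap, RingHom.comp_apply, glob_eq, ro_id]
        rfl
    have e2 : pr h0 x2 = (gE (k := k) Q : Q →+* _).comp i2.toRingHom := by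
      refine tensor_hom_ext (fun c => ?_) (fun a => ?_)
      · rw [pr_tmul, map_one, _root_.mul_one]
        change glob (𝟙 _ ≫ h0) c = _
        rw [glob_specMap, RingHom.comp_apply, glob_eq, ro_id]
        change gE (k := k) Q (algebraMap R Q c) = gE (k := k) Q ((1 : H) ⊗ₜ[R] (c ⊗ₜ[k] (1 : A)))
        congr 1
        have h5 : c ⊗ₜ[k] (1 : A) = algebraMap R H c := by
          rw [Algebra.TensorProduct.algebraMap_apply, Algebra.algebraMap_self_apply]
        rw [h5]
        exact Algebra.TensorProduct.algebraMap_apply' c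
      · rw [pr_tmul, map_one, _root_.one_mul]
        change glob (𝟙 _ ≫ x2) a = _
        rw [glob_specMap, RingHom.comp_apply, glob_eq, ro_id]
        rfl
    have h1 := gm_ev φ h0 (x1 * x2)
    rw [pt_mul, map_add, gm_add, gm_ev, gm_ev, pr_mul] at h1
    have h3 : prod2 (k := R) (pr h0 x1) (pr h0 x2)
        (RingHom.ext fun r => (pr_algebraMap h0 x1 r).trans (pr_algebraMap h0 x2 r).symm) =
        (gE (k := k) Q : Q →+* _) := by
      refine tensor_hom_ext (fun c => ?_) (fun c => ?_)
      · rw [prod2_tmul, map_one, _root_.mul_one, e1]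
        rfl
      · rw [prod2_tmul, map_one, _root_.one_mul, e2]
        rfl
    rw [h3, e1, e2] at h1
    apply (gE (k := k) Q).injective
    refine h1.symm.trans ?_
    change gE (k := k) Q (i1 (ch φ)) * gE (k := k) Q (i2 (ch φ)) = _
    rw [← map_mul]
    congr 1
    change (ch φ ⊗ₜ[R] (1 : H)) * ((1 : H) ⊗ₜ[R] ch φ) = _
    rw [Algebra.TensorProduct.tmul_mul_tmul, _root_.mul_one, _root_.one_mul]

/-- The character attached to a group-like element. -/
def ofGL (χ : R ⊗[k] A) (hχ : IsGroupLikeElem R χ) : Γs (hom (GA k A) (Gm _)) (SpecOver k R) :=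
  mk (fun W h =>
    { toFun := fun s => gms (Units.map (pr h (Additive.toMul (ULift.down s))).toMonoidHom hχ.isUnit.unit)
      map_zero' := by
        apply gm_injective
        rw [gm_gms, gm_zero]
        change pr h (1 : W ⟶ SpecOver k A) χ = 1
        rw [pr_one, hχ.counit_eq_one, map_one]
      map_add' := fun y y' => by
        apply gm_injective
        rw [gm_add, gm_gms, gm_gms, gm_gms]
        exact pr_mul_of_isGroupLike h _ _ hχ })
    (fun W W' h g s => by
      apply gm_injective
      change gm (r (Gm _) g (gms _)) = gm (gms _)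
      rw [gm_r, gm_gms, gm_gms]
      change ro g (pr h (Additive.toMul (ULift.down s)) χ) = pr (g ≫ h) (g ≫ Additive.toMul (ULift.down s)) χ
      rw [pr_comp]
      rfl)

theorem ch_ofGL (χ : R ⊗[k] A) (hχ : IsGroupLikeElem R χ) : ch (ofGL χ hχ) = χ :=
  ch_eq fun W g x => by
    change gm (gms _) = _
    rw [gm_gms]
    rfl

end dual

end K773.CharSec
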