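import Groth.Agent.S0747
import Groth.Agent.Etdl.H432.Sec
import Groth.Agent.GaDual.K771.PerfRes

/-!
# fppf sheaves which come from the small étale site

`EtLike F`: sections of `F` are étale-locally pulled back from étale `S`-schemes and vanish étale-locally when they
vanish at a point.  Then `R^q a_* F = 0` for `q > 0` and `H^q_fppf(S, F) = H^q_et(S, a_* F)`.
-/

set_option autoImplicit false
universe u

open CategoryTheory Limits AlgebraicGeometry Opposite
open Groth.Agent.Etdl.H432.Sec Groth.Agent.Etrest Groth.Agent.Etrest.BigEtSite Groth.Agent.Etrest.BigFppf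

noncomputable section

namespace K773.EtLk

variable {S : Scheme.{u}}

instance aCont : EtFppf.ACont S := Groth.Agent.S0779.result _

/-- The sheaf comes from the small étale site. -/
structure EtLike (F : EtFppf.AbF S) : Prop where
  surj : ∀ (T : Over S) (s : Γs F T) (x : T.left), ∃ (T' : Over S) (g : T' ⟶ T) (U : S.Etale)
    (h : T' ⟶ (EtFppf.a S).obj U) (t : Γs F ((EtFppf.a S).obj U)),
    Etale g.left ∧ x ∈ Set.range g.left ∧ r F g s = r F h t
  inj : ∀ (T : Over S) (U : S.Etale) (h : T ⟶ (EtFppf.a S).obj U) (t : Γs F ((EtFppf.a S).obj U)),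
    r F h t = 0 → ∀ x : T.left, ∃ (W : S.Etale) (g : W ⟶ U), h.left x ∈ Set.range g.left ∧
      r F ((EtFppf.a S).map g) t = 0

variable {F : EtFppf.AbF S}

/-- The counit. -/
abbrev cu (F : EtFppf.AbF S) : (aPullE S).obj ((aPushE S).obj ((toE S).obj F)) ⟶ (toE S).obj F :=
  (aAdjE S).counit.app ((toE S).obj F)

theorem cu_sec {T : Over S} {U : S.Etale} (h : T ⟶ (EtFppf.a S).obj U) (t : Γs F ((EtFppf.a S).obj U)) :
    (cu F).hom.app (op T) (sec ((aPushE S).obj ((toE S).obj F)) h t) = r F h t := by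
  have h1 := (aAdjE S).right_triangle_components ((toE S).obj F)
  have h2 := congrArg (fun (α : (aPushE S).obj ((toE S).obj F) ⟶ (aPushE S).obj ((toE S).obj F)) =>
    α.hom.app (op U) t) h1
  have h3 := ConcreteCategory.congr_hom ((cu F).hom.naturality h.op)
    (((aAdjE S).unit.app ((aPushE S).obj ((toE S).obj F))).hom.app (op U) t)
  refine h3.trans ?_
  exact congrArg (fun z => F.obj.map h.op z) h2

theorem isIso_cu (hF : EtLike F) : IsIso (cu F) := by
  have h1 : Function.Injective (fun T : Over S => T) := fun _ _ h => h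
  have hinj : Sheaf.IsLocallyInjective (cu F) := by
    rw [Sheaf.isLocallyInjective_iff_injective]
    intro T
    rw [injective_iff_map_eq_zero]
    intro s hs
    refine eq_of_etale_local _ s 0 fun x => ?_
    obtain ⟨T', g, U, h, t, he, hx, e⟩ := exists_sec _ s x
    refine ⟨T', g, he, hx, ?_⟩
    rw [e, res_zero, sec_eq_zero_iff]
    have h2 : r F h t = 0 := by
      rw [← cu_sec, ← e]
      refine (ConcreteCategory.congr_hom ((cu F).hom.naturality g.op) s).trans ?_
      exact (congrArg (fun z => ((toE S).obj F).obj.map g.op z) hs).trans (map_zero _)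
    intro y
    obtain ⟨W, g', h3, h4⟩ := hF.inj T' U h t h2 y
    exact ⟨W, g', h3, h4⟩
  have hsur : Sheaf.IsLocallySurjective (cu F) := by
    constructor
    intro T s
    rw [mem_JE_iff]
    intro x
    obtain ⟨T', g, U, h, t, he, hx, e⟩ := hF.surj T s x
    refine ⟨T', g, ?_, he, hx⟩
    refine ⟨sec _ h t, ?_⟩
    rw [cu_sec, ← e]
    rfl
  exact (Sheaf.isLocallyBijective_iff_isIso (cu F)).1 ⟨hinj, hsur⟩

theorem ca (hF : EtLike F) : FppfMain.CA F.obj := by
  have := isIso_cu hF
  exact (FppfCA.ca_aPullE ((aPushE S).obj ((toE S).obj F))).of_iso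
    ((sheafToPresheaf (JE S) _).mapIso (asIso (cu F)))

theorem isZero_rightDerived (hF : EtLike F) (q : ℕ) (hq : 0 < q) :
    IsZero (((EtFppf.aPush S).rightDerived q).obj F) :=
  FppfMain.isZero_rightDerived_of_CA (EtFppf.aPush S) (fun α h => FppfMain.epi_aPush α h) (G := F) (ca hF) q hq

theorem nonempty_hEquiv (hF : EtLike F) (q : ℕ) :
    Nonempty (EtCoh.H S ((EtFppf.aPush S).obj F) q ≃+ EtFppf.HF S F q) := by
  obtain ⟨e⟩ := RAcyc.nonempty_extAddEquiv (EtFppf.aAdj S)
    (FppfExact.aPush_injective S) (G := F) (isZero_rightDerived hF)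
    ((constantSheaf (Scheme.smallEtaleTopology S) AddCommGrpCat.{u + 1}).obj (AddCommGrpCat.of (ULift ℤ))) q
  have e2 : Abelian.Ext ((EtFppf.aPull S).obj ((constantSheaf (Scheme.smallEtaleTopology S) AddCommGrpCat.{u + 1}).obj
      (AddCommGrpCat.of (ULift ℤ)))) F q ≃+ EtFppf.HF S F q :=
    (((Abelian.extFunctor q).mapIso
      (FppfExact.constIso S (AddCommGrpCat.of (ULift ℤ))).symm.op).app F).addCommGroupIsoToAddEquiv
  exact ⟨e.trans e2⟩

end K773.EtLk
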