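import Groth.Agent.TateLoc.K798.CharFG
import Groth.Agent.Sga3A.MTBasis
import Mathlib.FieldTheory.IsSepClosed
import Mathlib.FieldTheory.IntermediateField.Adjoin.Basic
import Mathlib.Algebra.Module.Torsion.Basic

/-!
# Group-like elements over separable extensions stabilise

`A` a finitely generated commutative and cocommutative Hopf algebra over the field `K`.  There is a finite separable
`L / K` such that all group-like elements of `N ⊗ A`, `N ⊇ L` finite separable, come from `L ⊗ A`, and an integer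
`t > 0` which kills all group-like elements of finite order in all `N ⊗ A`.
-/

set_option autoImplicit false
universe u
open TensorProduct

namespace K773.FGStab

open Groth.Agent.Sga3A.MTBasis

/-- The torsion of a finitely generated commutative group has finite exponent. -/
theorem exists_torsion_exponent (G : Type u) [CommGroup G] [Group.FG G] :
    ∃ t : ℕ, 0 < t ∧ ∀ x : G, IsOfFinOrder x → x ^ t = 1 := by
  have h1 : Module.Finite ℤ (Additive G) := by
    rw [Module.Finite.iff_addGroup_fg]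
    infer_instance
  have h2 : IsNoetherian ℤ (Additive G) := isNoetherian_of_isNoetherianRing_of_finite ℤ _
  obtain ⟨s, hs⟩ := (isNoetherian_def.1 h2) (Submodule.torsion ℤ (Additive G))
  have hfin : ∀ x ∈ s, ∃ n : ℕ, 0 < n ∧ n • x = 0 := by
    intro x hx
    have hx' : x ∈ Submodule.torsion ℤ (Additive G) := hs ▸ Submodule.subset_span hx
    rw [Submodule.mem_torsion_iff] at hx'
    obtain ⟨a, ha⟩ := hx'
    refine ⟨(a : ℤ).natAbs, Int.natAbs_pos.2 (nonZeroDivisors.ne_zero a.2), ?_⟩
    have ha' : (a : ℤ) • x = 0 := ha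
    rcases Int.natAbs_eq (a : ℤ) with h | h
    · rw [h, natCast_zsmul] at ha'
      exact ha'
    · rw [h, neg_smul, natCast_zsmul, neg_eq_zero] at ha'
      exact ha'
  choose! n hn0 hn using hfin
  refine ⟨∏ x ∈ s, n x, Finset.prod_pos hn0, fun x hx => ?_⟩
  have hx' : Additive.ofMul x ∈ Submodule.torsion ℤ (Additive G) := by
    rw [Submodule.mem_torsion_iff]
    obtain ⟨m, hm, h⟩ := isOfFinOrder_iff_pow_eq_one.1 hx
    refine ⟨⟨(m : ℤ), mem_nonZeroDivisors_of_ne_zero (by exact_mod_cast hm.ne')⟩, ?_⟩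
    change (m : ℤ) • Additive.ofMul x = 0
    rw [natCast_zsmul, ← ofMul_pow, h]
    rfl
  rw [← hs] at hx'
  have key : ∀ y ∈ Submodule.span ℤ (s : Set (Additive G)), (∏ x ∈ s, n x) • y = 0 := by
    intro y hy
    induction hy using Submodule.span_induction with
    | mem y hy =>
      obtain ⟨c, hc⟩ := Finset.dvd_prod_of_mem n hy
      rw [hc, mul_comm, mul_smul, hn y hy, smul_zero]
    | zero => rw [smul_zero]
    | add y z _ _ hy hz => rw [smul_add, hy, hz, add_zero]
    | smul a y _ hy => rw [smul_comm, hy, smul_zero]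
  exact key _ hx'

variable {K : Type u} [Field K] {A : Type u} [CommRing A] [HopfAlgebra K A]

theorem bc_injective {S T : Type*} [Field S] [CommRing T] [Nontrivial T] [Algebra K S] [Algebra K T]
    (f : S →ₐ[K] T) : Function.Injective (bc A f) := by
  have h1 : Function.Injective f.toLinearMap := f.toRingHom.injective
  exact Module.Flat.rTensor_preserves_injective_linearMap (M := A) _ h1

/-- Descent of group-likeness along field extensions. -/
theorem isGroupLikeElem_of_bc {S T : Type u} [Field S] [Field T] [Algebra K S] [Algebra K T]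
    (f : S →ₐ[K] T) {x : S ⊗[K] A} (h : IsGroupLikeElem T (bc A f x)) : IsGroupLikeElem S x := by
  let _ := f.toRingHom.toAlgebra
  have : IsScalarTower K S T := .of_algebraMap_eq' f.comp_algebraMap.symm
  refine isGroupLikeElem_of_one_tmul (R := S) (S := T) ?_
  have h1 := h.map (cancelBC K S T A).symm
  have h2 : (cancelBC K S T A).symm (bc A f x) = (1 : T) ⊗ₜ[S] x := by
    have h3 : bc A f x = cancelBC K S T A ((1 : T) ⊗ₜ[S] x) := (cancelBC_one_tmul x).symm
    rw [h3]
    exact (cancelBC K S T A).symm_apply_apply _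
  rwa [h2] at h1

theorem exists_finset (Ω : Type u) [Field Ω] [Algebra K Ω] (z : Ω ⊗[K] A) :
    ∃ s : Finset Ω, ∀ L : IntermediateField K Ω, (s : Set Ω) ⊆ L → ∃ z' : L ⊗[K] A, bc A L.val z' = z := by
  classical
  induction z using TensorProduct.induction_on with
  | zero => exact ⟨∅, fun L _ => ⟨0, map_zero _⟩⟩
  | tmul c a => exact ⟨{c}, fun L h => ⟨(⟨c, h (by simp)⟩ : L) ⊗ₜ a, rfl⟩⟩
  | add x y hx hy =>
    obtain ⟨s, hs⟩ := hx
    obtain ⟨t, ht⟩ := hy
    refine ⟨s ∪ t, fun L h => ?_⟩
    rw [Finset.coe_union, Set.union_subset_iff] at h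
    obtain ⟨x', hx'⟩ := hs L h.1
    obtain ⟨y', hy'⟩ := ht L h.2
    exact ⟨x' + y', by rw [map_add, hx', hy']⟩

/-- If generators come from `L` all group-like elements do. -/
theorem exists_of_generators {L Ω : Type u} [Field L] [Algebra K L] [Field Ω] [Algebra K Ω] (i : L →ₐ[K] Ω)
    (F : Set (GroupLike Ω (Ω ⊗[K] A))) (hF : Subgroup.closure F = ⊤)
    (h : ∀ g ∈ F, ∃ x : L ⊗[K] A, bc A i x = g.val) (z : GroupLike Ω (Ω ⊗[K] A)) :
    ∃ x : L ⊗[K] A, IsGroupLikeElem L x ∧ bc A i x = z.val := by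
  let P : Subgroup (GroupLike Ω (Ω ⊗[K] A)) :=
    { carrier := {z | ∃ x : L ⊗[K] A, IsGroupLikeElem L x ∧ bc A i x = z.val}
      mul_mem' := by
        rintro a b ⟨x, hx, hxa⟩ ⟨y, hy, hyb⟩
        exact ⟨x * y, hx.mul hy, by rw [map_mul, hxa, hyb]; rfl⟩
      one_mem' := ⟨1, .one, by rw [map_one]; rfl⟩
      inv_mem' := by
        rintro a ⟨x, hx, hxa⟩
        refine ⟨HopfAlgebra.antipode L x, hx.antipode, ?_⟩
        have h1 : bc A i x * bc A i (HopfAlgebra.antipode L x) = 1 := by
          rw [← map_mul, hx.mul_antipode_cancel, map_one]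
        have h2 : a.val * (a⁻¹).val = 1 := a.2.mul_antipode_cancel
        rw [hxa] at h1
        exact a.2.isUnit.mul_left_cancel (h1.trans h2.symm) }
  have hP : (⊤ : Subgroup (GroupLike Ω (Ω ⊗[K] A))) ≤ P := by
    rw [← hF, Subgroup.closure_le]
    intro g hg
    obtain ⟨x, hx⟩ := h g hg
    exact ⟨x, isGroupLikeElem_of_bc i (by rw [hx]; exact g.2), hx⟩
  exact hP (Subgroup.mem_top z)

/-- Stability for a field `L` over which all group-like elements of a separable closure are defined. -/
theorem stable_of_all {L Ω : Type u} [Field L] [Algebra K L] [Field Ω] [Algebra K Ω] [IsSepClosed Ω]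
    (i : L →ₐ[K] Ω)
    (hgl : ∀ z : GroupLike Ω (Ω ⊗[K] A), ∃ x : L ⊗[K] A, IsGroupLikeElem L x ∧ bc A i x = z.val)
    (N : Type u) [Field N] [Algebra K N] [FiniteDimensional K N] [Algebra.IsSeparable K N] (f : L →ₐ[K] N)
    (y : N ⊗[K] A) (hy : IsGroupLikeElem N y) : ∃ x : L ⊗[K] A, IsGroupLikeElem L x ∧ bc A f x = y := by
  let _ : Algebra L N := f.toRingHom.toAlgebra
  have : IsScalarTower K L N := .of_algebraMap_eq' f.comp_algebraMap.symm
  have : Algebra.IsSeparable L N := Algebra.isSeparable_tower_top_of_isSeparable K L N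
  let _ : Algebra L Ω := i.toRingHom.toAlgebra
  have : IsScalarTower K L Ω := .of_algebraMap_eq' i.comp_algebraMap.symm
  let g₀ : N →ₐ[L] Ω := IsSepClosed.lift
  let g : N →ₐ[K] Ω := g₀.restrictScalars K
  obtain ⟨x, hx, hxy⟩ := hgl ⟨bc A g y, isGroupLikeElem_bc g hy⟩
  refine ⟨x, hx, bc_injective g ?_⟩
  rw [bc_bc]
  have h1 : g.comp f = i := by
    ext z
    exact g₀.commutes z
  rw [h1, hxy]

theorem exists_stable_aux [Algebra.FiniteType K A] (Ω : Type u) [Field Ω] [Algebra K Ω] [IsSepClosed Ω]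
    [Algebra.IsSeparable K Ω] :
    ∃ (L : Type u) (_ : Field L) (_ : Algebra K L) (_ : FiniteDimensional K L) (_ : Algebra.IsSeparable K L) (t : ℕ),
      0 < t ∧
      (∀ (N : Type u) [Field N] [Algebra K N] [FiniteDimensional K N] [Algebra.IsSeparable K N] (f : L →ₐ[K] N)
        (y : N ⊗[K] A), IsGroupLikeElem N y → ∃ x : L ⊗[K] A, IsGroupLikeElem L x ∧ bc A f x = y) ∧
      (∀ (N : Type u) [Field N] [Algebra K N] [FiniteDimensional K N] [Algebra.IsSeparable K N]
        (y : N ⊗[K] A), IsGroupLikeElem N y → IsOfFinOrder y → y ^ t = 1) := by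
  have hfg : Group.FG (GroupLike Ω (Ω ⊗[K] A)) := Groth.Agent.TateLoc.K798.CharFG.fg_groupLike
  obtain ⟨t, ht, hexp⟩ := exists_torsion_exponent (GroupLike Ω (Ω ⊗[K] A))
  obtain ⟨F, hF⟩ := hfg.out
  choose S hS using fun z : Ω ⊗[K] A => exists_finset Ω z
  classical
  let E : Finset Ω := F.biUnion fun g => S g.val
  let L : IntermediateField K Ω := IntermediateField.adjoin K (E : Set Ω)
  have hLfin : FiniteDimensional K L := by
    refine IntermediateField.finiteDimensional_adjoin fun x _ => ?_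
    exact (Algebra.IsSeparable.isIntegral K x)
  -- every group-like element over `Ω` comes from `L`
  have hgl : ∀ z : GroupLike Ω (Ω ⊗[K] A), ∃ x : L ⊗[K] A, IsGroupLikeElem L x ∧ bc A L.val x = z.val := by
    refine exists_of_generators L.val F hF fun g hg => ?_
    have h1 : ((S g.val : Finset Ω) : Set Ω) ⊆ L := fun c hc =>
      IntermediateField.subset_adjoin K _ (Finset.mem_coe.2 (Finset.mem_biUnion.2 ⟨g, hg, hc⟩))
    exact hS g.val L h1
  refine ⟨L, inferInstance, inferInstance, hLfin, inferInstance, t, ht, ?_, ?_⟩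
  · exact fun N _ _ _ _ f y hy => stable_of_all L.val hgl N f y hy
  · intro N _ _ _ _ y hy hfin
    let g : N →ₐ[K] Ω := IsSepClosed.lift
    have h1 := hexp ⟨bc A g y, isGroupLikeElem_bc g hy⟩ (by
      rw [isOfFinOrder_iff_pow_eq_one] at hfin ⊢
      obtain ⟨n, hn, h⟩ := hfin
      refine ⟨n, hn, GroupLike.val_injective ?_⟩
      rw [GroupLike.val_pow, ← map_pow, h, map_one]
      rfl)
    have h2 := congrArg GroupLike.val h1
    rw [GroupLike.val_pow, ← map_pow] at h2
    apply bc_injective g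
    rw [h2, map_one]
    rfl

theorem exists_stable [Algebra.FiniteType K A] :
    ∃ (L : Type u) (_ : Field L) (_ : Algebra K L) (_ : FiniteDimensional K L) (_ : Algebra.IsSeparable K L) (t : ℕ),
      0 < t ∧
      (∀ (N : Type u) [Field N] [Algebra K N] [FiniteDimensional K N] [Algebra.IsSeparable K N] (f : L →ₐ[K] N)
        (y : N ⊗[K] A), IsGroupLikeElem N y → ∃ x : L ⊗[K] A, IsGroupLikeElem L x ∧ bc A f x = y) ∧
      (∀ (N : Type u) [Field N] [Algebra K N] [FiniteDimensional K N] [Algebra.IsSeparable K N]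
        (y : N ⊗[K] A), IsGroupLikeElem N y → IsOfFinOrder y → y ^ t = 1) :=
  exists_stable_aux (SeparableClosure K)

end K773.FGStab
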