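import Mathlib.FieldTheory.Finite.Basic
import Mathlib.FieldTheory.Finite.GaloisField
import Mathlib.FieldTheory.Fixed
import Mathlib.FieldTheory.Separable
import Mathlib.FieldTheory.SeparableDegree
import Mathlib.RingTheory.Unramified.Field
import Mathlib.RingTheory.Etale.Field
import Mathlib.RingTheory.TensorProduct.Finite
import Mathlib.RingTheory.TensorProduct.Free
import Mathlib.RingTheory.Flat.Basic
import Mathlib.RingTheory.Flat.Stability
import Mathlib.LinearAlgebra.Dual.Lemmas
import Mathlib.LinearAlgebra.FreeModule.Finite.Matrix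

/-!
# Lang's theorem for the multiplicative group of `L ⊗ E`

`k` a finite field with `q` elements, `E / k` an algebraic extension, `L` a field over `k`, `F = Frob_q ⊗ 1` on `L ⊗ E`.
* `ker`: the fixed points of `F` are `1 ⊗ E`;
* `exists_lang`: for a unit `x` of `L ⊗ E` there are a finite separable extension `L'` of `L` and a unit `y` of `L' ⊗ E` with
  `F y = x y`.
-/

set_option autoImplicit false
universe u

open TensorProduct Polynomial

noncomputable section

namespace K773.LangAlg

section basic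

variable (k : Type u) [Field k] [Fintype k] (E : Type u) [Field E] [Algebra k E]

/-- The Frobenius on the first factor. -/
def F (R : Type u) [CommRing R] [Algebra k R] : R ⊗[k] E →ₐ[k] R ⊗[k] E :=
  Algebra.TensorProduct.map (FiniteField.frobeniusAlgHom k R) (AlgHom.id k E)

@[simp] theorem F_tmul {R : Type u} [CommRing R] [Algebra k R] (r : R) (e : E) :
    F k E R (r ⊗ₜ[k] e) = (r ^ Fintype.card k) ⊗ₜ[k] e := rfl

/-- Base change. -/
def bcL {R R' : Type u} [CommRing R] [Algebra k R] [CommRing R'] [Algebra k R'] (f : R →ₐ[k] R') :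
    R ⊗[k] E →ₐ[k] R' ⊗[k] E := Algebra.TensorProduct.map f (AlgHom.id k E)

@[simp] theorem bcL_tmul {R R' : Type u} [CommRing R] [Algebra k R] [CommRing R'] [Algebra k R'] (f : R →ₐ[k] R')
    (r : R) (e : E) : bcL k E f (r ⊗ₜ[k] e) = f r ⊗ₜ[k] e := rfl

theorem F_bcL {R R' : Type u} [CommRing R] [Algebra k R] [CommRing R'] [Algebra k R'] (f : R →ₐ[k] R') (z : R ⊗[k] E) :
    F k E R' (bcL k E f z) = bcL k E f (F k E R z) := by
  induction z with
  | zero => simp only [map_zero]
  | add x y hx hy => simp only [map_add, hx, hy]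
  | tmul r e => simp only [bcL_tmul, F_tmul, map_pow]

theorem bcL_bcL {R R' R'' : Type u} [CommRing R] [Algebra k R] [CommRing R'] [Algebra k R'] [CommRing R'']
    [Algebra k R''] (f : R →ₐ[k] R') (g : R' →ₐ[k] R'') (z : R ⊗[k] E) :
    bcL k E g (bcL k E f z) = bcL k E (g.comp f) z := by
  induction z with
  | zero => simp only [map_zero]
  | add x y hx hy => simp only [map_add, hx, hy]
  | tmul r e => rfl

/-- The fixed points of `F`. -/
theorem ker (L : Type u) [Field L] [Algebra k L] (z : L ⊗[k] E) (hz : F k E L z = z) : ∃ e : E, z = 1 ⊗ₜ[k] e := by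
  classical
  let b := Module.Basis.ofVectorSpace k E
  let B := Algebra.TensorProduct.basis L b
  have h1 : ∀ i, (B.repr z i) ^ Fintype.card k = B.repr z i := by
    intro i
    have h2 : ∀ w : L ⊗[k] E, B.repr (F k E L w) i = (B.repr w i) ^ Fintype.card k := by
      intro w
      induction w with
      | zero => simp only [map_zero, Finsupp.coe_zero, Pi.zero_apply]; rw [zero_pow Fintype.card_ne_zero]
      | add x y hx hy =>
        rw [map_add, map_add, map_add, Finsupp.add_apply, Finsupp.add_apply, hx, hy]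
        exact ((FiniteField.frobeniusAlgHom k L).map_add _ _).symm
      | tmul r e =>
        rw [F_tmul, Algebra.TensorProduct.basis_repr_tmul, Algebra.TensorProduct.basis_repr_tmul]
        simp only [Finsupp.smul_apply, Finsupp.mapRange_apply, smul_eq_mul, mul_pow]
        rw [← map_pow, FiniteField.pow_card]
    rw [← h2, hz]
  have h3 : ∀ i, ∃ c : k, algebraMap k L c = B.repr z i := by
    intro i
    by_contra hcon
    push Not at hcon
    let P : L[X] := X ^ Fintype.card k - X
    have hP : P ≠ 0 := FiniteField.X_pow_card_sub_X_ne_zero L Fintype.one_lt_card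
    have hdeg : P.natDegree = Fintype.card k := FiniteField.X_pow_card_sub_X_natDegree_eq L Fintype.one_lt_card
    let S : Finset L := insert (B.repr z i) (Finset.univ.image (algebraMap k L))
    have hS : S.card ≤ P.natDegree := by
      refine card_le_degree_of_subset_roots (p := P) (Z := S) ?_
      intro y hy
      rw [Finset.mem_val, Finset.mem_insert] at hy
      rw [mem_roots hP, IsRoot, eval_sub, eval_pow, eval_X, sub_eq_zero]
      rcases hy with rfl | hy
      · exact h1 i
      · obtain ⟨c, -, rfl⟩ := Finset.mem_image.1 hy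
        rw [← map_pow, FiniteField.pow_card]
    rw [hdeg, Finset.card_insert_of_notMem, Finset.card_image_of_injective _ (algebraMap k L).injective,
      Finset.card_univ] at hS
    · omega
    · intro hmem
      obtain ⟨c, -, hc⟩ := Finset.mem_image.1 hmem
      exact hcon c hc
  choose c hc using h3
  refine ⟨(B.repr z).sum fun i _ => c i • b i, ?_⟩
  have h4 : z = (B.repr z).sum fun i a => a • B i := (B.linearCombination_repr z).symm
  rw [Finsupp.sum, TensorProduct.tmul_sum]
  conv_lhs => rw [h4]
  refine Finset.sum_congr rfl fun i _ => ?_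
  change B.repr z i • B i = _
  rw [Algebra.TensorProduct.basis_apply, TensorProduct.smul_tmul', smul_eq_mul, mul_one, ← hc,
    TensorProduct.tmul_smul, TensorProduct.smul_tmul', Algebra.algebraMap_eq_smul_one]

end basic

section fin

variable (k : Type u) [Field k] [Fintype k] {E : Type u} [Field E] [Algebra k E] {L : Type u} [Field L] [Algebra k L]
  (ρ : E →ₐ[k] L)

/-- Evaluations. -/
def ev (j : ℕ) : L ⊗[k] E →ₐ[L] L :=
  Algebra.TensorProduct.lift (AlgHom.id L L) ((FiniteField.frobeniusAlgHom k L ^ j).comp ρ) (fun _ _ => .all _ _)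

theorem frob_pow (R : Type u) [CommRing R] [Algebra k R] (j : ℕ) (x : R) :
    (FiniteField.frobeniusAlgHom k R ^ j) x = x ^ (Fintype.card k ^ j) := by
  rw [AlgHom.coe_pow, FiniteField.coe_frobeniusAlgHom, pow_iterate]

@[simp] theorem ev_tmul (j : ℕ) (a : L) (e : E) : ev k ρ j (a ⊗ₜ[k] e) = a * ρ e ^ (Fintype.card k ^ j) := by
  rw [← frob_pow]
  rfl

theorem ev_F (j : ℕ) (z : L ⊗[k] E) : ev k ρ (j + 1) (F k E L z) = (ev k ρ j z) ^ Fintype.card k := by
  induction z with
  | zero => rw [map_zero, map_zero, map_zero, zero_pow Fintype.card_ne_zero]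
  | add x y hx hy =>
    rw [map_add, map_add, map_add, hx, hy]
    exact ((FiniteField.frobeniusAlgHom k L).map_add _ _).symm
  | tmul a e => rw [F_tmul, ev_tmul, ev_tmul, mul_pow, ← pow_mul, pow_succ]

theorem ev_period [FiniteDimensional k E] (j : ℕ) (z : L ⊗[k] E) :
    ev k ρ (j + Module.finrank k E) z = ev k ρ j z := by
  have : Finite E := Module.finite_of_finite k
  have := Fintype.ofFinite E
  induction z with
  | zero => rw [map_zero, map_zero]
  | add x y hx hy => rw [map_add, map_add, hx, hy]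
  | tmul a e =>
    rw [ev_tmul, ev_tmul, add_comm j, pow_add, pow_mul, ← map_pow, ← Module.card_eq_pow_finrank, FiniteField.pow_card]

theorem linearIndependent_ev [FiniteDimensional k E] :
    LinearIndependent L (fun j : Fin (Module.finrank k E) => (ev k ρ j).toLinearMap) := by
  have : Finite E := Module.finite_of_finite k
  have h1 : Function.Injective (fun j : Fin (Module.finrank k E) => (FiniteField.frobeniusAlgHom k L ^ (j : ℕ)).comp ρ) := by
    intro i j hij
    apply (FiniteField.bijective_frobeniusAlgHom_pow k E).1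
    refine AlgHom.ext fun e => ρ.injective ?_
    have h2 := DFunLike.congr_fun hij e
    simp only [AlgHom.comp_apply] at h2
    rw [frob_pow, frob_pow, ← map_pow, ← map_pow] at h2
    rw [frob_pow, frob_pow]
    exact h2
  have h2 := (linearIndependent_toLinearMap k E L).comp _ h1
  have h3 := h2.map' (LinearMap.liftBaseChangeEquiv L : (E →ₗ[k] L) ≃ₗ[L] (L ⊗[k] E →ₗ[L] L)).toLinearMap
    (LinearEquiv.ker _)
  have h4 : (fun j : Fin (Module.finrank k E) => (ev k ρ j).toLinearMap) =
      (LinearMap.liftBaseChangeEquiv L : (E →ₗ[k] L) ≃ₗ[L] (L ⊗[k] E →ₗ[L] L)).toLinearMap ∘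
      (AlgHom.toLinearMap ∘ fun j : Fin (Module.finrank k E) => (FiniteField.frobeniusAlgHom k L ^ (j : ℕ)).comp ρ) := by
    funext j
    refine LinearMap.ext fun z => ?_
    induction z with
    | zero => rw [map_zero, map_zero]
    | add x y hx hy => rw [map_add, map_add, hx, hy]
    | tmul a e => rfl
  rw [h4]
  exact h3

theorem ev_injective [FiniteDimensional k E] {z : L ⊗[k] E}
    (hz : ∀ j : Fin (Module.finrank k E), ev k ρ j z = 0) : z = 0 := by
  have h1 := linearIndependent_ev k ρ
  have hcard : Fintype.card (Fin (Module.finrank k E)) = Module.finrank L (Module.Dual L (L ⊗[k] E)) := by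
    rw [Fintype.card_fin, Subspace.dual_finrank_eq, Module.finrank_baseChange]
  have h2 := h1.span_eq_top_of_card_eq_finrank' hcard
  rw [← Module.forall_dual_apply_eq_zero_iff L]
  intro φ
  have h3 : φ ∈ Submodule.span L (Set.range fun j : Fin (Module.finrank k E) => (ev k ρ j).toLinearMap) := by
    rw [h2]; trivial
  induction h3 using Submodule.span_induction with
  | mem x hx =>
    obtain ⟨j, rfl⟩ := hx
    exact hz j
  | zero => rfl
  | add x y _ _ hx hy => rw [LinearMap.add_apply, hx, hy, add_zero]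
  | smul a x _ hx => rw [LinearMap.smul_apply, hx, smul_zero]

theorem ev_surjective [FiniteDimensional k E] (c : Fin (Module.finrank k E) → L) :
    ∃ z : L ⊗[k] E, ∀ j : Fin (Module.finrank k E), ev k ρ j z = c j := by
  let Φ : L ⊗[k] E →ₗ[L] (Fin (Module.finrank k E) → L) := LinearMap.pi fun j => (ev k ρ j).toLinearMap
  have h1 : Function.Injective Φ := by
    rw [injective_iff_map_eq_zero]
    intro z hz
    exact ev_injective k ρ fun j => congrFun hz j
  have h2 : Function.Surjective Φ := (LinearMap.injective_iff_surjective_of_finrank_eq_finrank (by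
    rw [Module.finrank_baseChange, Module.finrank_fin_fun])).1 h1
  obtain ⟨z, hz⟩ := h2 c
  exact ⟨z, fun j => congrFun hz j⟩

/-- The product of conjugates. -/
def CC (x : L ⊗[k] E) : ℕ → L
  | 0 => 1
  | j + 1 => (CC x j) ^ Fintype.card k * ev k ρ (j + 1) x

theorem CC_ne_zero (x : (L ⊗[k] E)ˣ) (j : ℕ) : CC k ρ (x : L ⊗[k] E) j ≠ 0 := by
  induction j with
  | zero => exact one_ne_zero
  | succ j ih => exact mul_ne_zero (pow_ne_zero _ ih) (x.isUnit.map (ev k ρ (j + 1))).ne_zero

theorem exists_unit_of_root [FiniteDimensional k E] (x : (L ⊗[k] E)ˣ) (t : L) (ht0 : t ≠ 0)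
    (ht : t ^ (Fintype.card k ^ Module.finrank k E) = t * CC k ρ (x : L ⊗[k] E) (Module.finrank k E)) :
    ∃ y : (L ⊗[k] E)ˣ, F k E L y = x * y := by
  let d := Module.finrank k E
  have hd : 0 < d := Module.finrank_pos
  let Y : ℕ → L := fun j => t ^ (Fintype.card k ^ j) / CC k ρ (x : L ⊗[k] E) j
  have hY0 : Y 0 = t := by simp [Y, CC]
  have hYne : ∀ j, Y j ≠ 0 := fun j => div_ne_zero (pow_ne_zero _ ht0) (CC_ne_zero k ρ x j)
  have hY : ∀ j, (Y j) ^ Fintype.card k = Y (j + 1) * ev k ρ (j + 1) (x : L ⊗[k] E) := by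
    intro j
    have h1 := CC_ne_zero k ρ x j
    have h2 : ev k ρ (j + 1) (x : L ⊗[k] E) ≠ 0 := (x.isUnit.map (ev k ρ (j + 1))).ne_zero
    simp only [Y, CC, div_pow, ← pow_mul, pow_succ]
    field_simp
  have hYd : Y d = t := by
    simp only [Y]
    rw [ht, mul_div_assoc, div_self (CC_ne_zero k ρ x d), mul_one]
  obtain ⟨z, hz⟩ := ev_surjective k ρ fun j : Fin d => Y j
  obtain ⟨z', hz'⟩ := ev_surjective k ρ fun j : Fin d => (Y j)⁻¹
  have hzz : z * z' = 1 := by
    rw [← sub_eq_zero]
    apply ev_injective k ρ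
    intro j
    rw [map_sub, map_mul, hz, hz', mul_inv_cancel₀ (hYne j), map_one, sub_self]
  refine ⟨⟨z, z', hzz, by rw [mul_comm, hzz]⟩, ?_⟩
  change F k E L z = x * z
  rw [← sub_eq_zero]
  apply ev_injective k ρ
  intro m
  rw [map_sub, sub_eq_zero, map_mul, hz]
  obtain ⟨m, hm⟩ := m
  cases m with
  | zero =>
    change ev k ρ 0 (F k E L z) = ev k ρ 0 x * Y 0
    have h1 : ev k ρ 0 (F k E L z) = ev k ρ ((d - 1) + 1) (F k E L z) := by
      rw [Nat.sub_add_cancel hd, ← ev_period k ρ 0, Nat.zero_add]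
    have h2 : ev k ρ 0 (x : L ⊗[k] E) = ev k ρ ((d - 1) + 1) (x : L ⊗[k] E) := by
      rw [Nat.sub_add_cancel hd, ← ev_period k ρ 0, Nat.zero_add]
    have h3 : ev k ρ (d - 1) z = Y (d - 1) := hz ⟨d - 1, by omega⟩
    rw [h1, ev_F, h3, hY, h2, Nat.sub_add_cancel hd, hYd, hY0, mul_comm]
  | succ m =>
    change ev k ρ (m + 1) (F k E L z) = ev k ρ (m + 1) x * Y (m + 1)
    have h3 : ev k ρ m z = Y m := hz ⟨m, by omega⟩
    rw [ev_F, h3, hY, mul_comm]

end fin

/-- Roots in finite separable extensions. -/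
theorem exists_sep_root (L : Type u) [Field L] (n : ℕ) (hn : (n : L) ≠ 0) (c : L) (hc : c ≠ 0) :
    ∃ (L' : Type u) (_ : Field L') (_ : Algebra L L') (_ : FiniteDimensional L L') (_ : Algebra.IsSeparable L L') (t : L'),
      t ^ n = algebraMap L L' c := by
  let f : L[X] := X ^ n - C c
  have hn0 : n ≠ 0 := by rintro rfl; exact hn Nat.cast_zero
  have hsep : f.Separable := separable_X_pow_sub_C c hn hc
  have hdeg : f.degree ≠ 0 := by
    rw [degree_X_pow_sub_C (Nat.pos_of_ne_zero hn0)]
    exact_mod_cast hn0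
  let L' := f.SplittingField
  have hgal : IsGalois L L' := IsGalois.of_separable_splitting_field (p := f) hsep
  have hs : (f.map (algebraMap L L')).Splits := SplittingField.splits f
  obtain ⟨t, ht⟩ := hs.exists_eval_eq_zero (by rw [degree_map]; exact hdeg)
  refine ⟨L', inferInstance, inferInstance, inferInstance, inferInstance, t, ?_⟩
  rw [eval_map, eval₂_sub, eval₂_X_pow, eval₂_C, sub_eq_zero] at ht
  exact ht

section main

variable (k : Type u) [Field k] [Fintype k]

theorem exists_lang_fin {E L : Type u} [Field E] [Algebra k E] [FiniteDimensional k E] [Field L] [Algebra k L]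
    (ρ : E →ₐ[k] L) (x : (L ⊗[k] E)ˣ) :
    ∃ (L' : Type u) (_ : Field L') (_ : Algebra L L') (_ : Algebra k L') (_ : IsScalarTower k L L')
      (_ : FiniteDimensional L L') (_ : Algebra.IsSeparable L L') (y : (L' ⊗[k] E)ˣ),
      F k E L' y = bcL k E (IsScalarTower.toAlgHom k L L') x * y := by
  have : Finite E := Module.finite_of_finite k
  have := Fintype.ofFinite E
  let d := Module.finrank k E
  have hd : 0 < d := Module.finrank_pos
  let n := Fintype.card k ^ d - 1
  have hq : (Fintype.card k : L) = 0 := by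
    rw [← map_natCast (algebraMap k L), FiniteField.cast_card_eq_zero, map_zero]
  have hn1 : n + 1 = Fintype.card k ^ d := Nat.sub_add_cancel (Nat.one_le_pow _ _ Fintype.card_pos)
  have hn : (n : L) ≠ 0 := by
    intro h
    have h1 : ((n + 1 : ℕ) : L) = 0 := by rw [hn1, Nat.cast_pow, hq, zero_pow hd.ne']
    rw [Nat.cast_add, h, zero_add, Nat.cast_one] at h1
    exact one_ne_zero h1
  obtain ⟨L', _, _, _, _, t, ht⟩ := exists_sep_root L n hn (CC k ρ (x : L ⊗[k] E) d) (CC_ne_zero k ρ x d)
  let _ : Algebra k L' := ((algebraMap L L').comp (algebraMap k L)).toAlgebra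
  have : IsScalarTower k L L' := IsScalarTower.of_algebraMap_eq fun _ => rfl
  let i : L →ₐ[k] L' := IsScalarTower.toAlgHom k L L'
  let ρ' : E →ₐ[k] L' := i.comp ρ
  have hev : ∀ (j : ℕ) (z : L ⊗[k] E), ev k ρ' j (bcL k E i z) = i (ev k ρ j z) := by
    intro j z
    induction z with
    | zero => simp only [map_zero]
    | add x y hx hy => simp only [map_add, hx, hy]
    | tmul a e =>
      rw [bcL_tmul, ev_tmul, ev_tmul, map_mul, map_pow]
      rfl
  let x' : (L' ⊗[k] E)ˣ := Units.map (bcL k E i).toRingHom.toMonoidHom x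
  have hx' : (x' : L' ⊗[k] E) = bcL k E i x := rfl
  have hC : ∀ j, CC k ρ' (x' : L' ⊗[k] E) j = i (CC k ρ (x : L ⊗[k] E) j) := by
    intro j
    induction j with
    | zero => exact (map_one i).symm
    | succ j ih => rw [CC, CC, ih, map_mul, map_pow, hx', hev]
  have ht0 : t ≠ 0 := by
    rintro rfl
    have hn0 : n ≠ 0 := by rintro h; rw [h] at hn; exact hn Nat.cast_zero
    rw [zero_pow hn0] at ht
    exact CC_ne_zero k ρ x d ((algebraMap L L').injective (by rw [map_zero]; exact ht.symm))
  obtain ⟨y, hy⟩ := exists_unit_of_root k ρ' x' t ht0 (by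
    change t ^ (Fintype.card k ^ d) = _
    rw [← hn1, pow_succ, ht, mul_comm]
    congr 1
    exact (hC d).symm)
  exact ⟨L', inferInstance, inferInstance, inferInstance, inferInstance, inferInstance, inferInstance, y, hy⟩

/-- Embedding a finite extension of `k` after a finite separable extension. -/
theorem exists_embed (E L : Type u) [Field E] [Algebra k E] [FiniteDimensional k E] [Field L] [Algebra k L] :
    ∃ (L' : Type u) (_ : Field L') (_ : Algebra L L') (_ : Algebra k L') (_ : IsScalarTower k L L')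
      (_ : FiniteDimensional L L') (_ : Algebra.IsSeparable L L'), Nonempty (E →ₐ[k] L') := by
  have hnt : Nontrivial (L ⊗[k] E) :=
    Algebra.TensorProduct.nontrivial_of_algebraMap_injective_of_flat_left (R := k) L E (algebraMap k E).injective
  obtain ⟨m, hm⟩ := Ideal.exists_maximal (L ⊗[k] E)
  let L' := L ⊗[k] E ⧸ m
  let _ : Field L' := Ideal.Quotient.field m
  have : Finite E := Module.finite_of_finite k
  have hs : Algebra.IsSeparable k E := inferInstance
  have : Algebra.FormallyEtale k E := Algebra.FormallyEtale.of_isSeparable k E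
  have : Algebra.FormallyUnramified L (L ⊗[k] E) := inferInstance
  have : Algebra.FormallyUnramified L L' :=
    Algebra.FormallyUnramified.of_surjective (Ideal.Quotient.mkₐ L m) (Ideal.Quotient.mkₐ_surjective L m)
  have hfin : Module.Finite L L' := Module.Finite.of_surjective (Ideal.Quotient.mkₐ L m).toLinearMap
    (Ideal.Quotient.mkₐ_surjective L m)
  have : Algebra.IsSeparable L L' := Algebra.FormallyUnramified.isSeparable L L'
  have : IsScalarTower k L L' := inferInstance
  refine ⟨L', inferInstance, inferInstance, inferInstance, inferInstance, hfin, inferInstance, ⟨?_⟩⟩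
  exact { ((Ideal.Quotient.mk m).comp (Algebra.TensorProduct.includeRight : E →ₐ[k] L ⊗[k] E).toRingHom) with
    commutes' := fun r => by
      change Ideal.Quotient.mk m ((1 : L) ⊗ₜ[k] algebraMap k E r) = Ideal.Quotient.mk m ((algebraMap k L r) ⊗ₜ[k] (1 : E))
      rw [Algebra.algebraMap_eq_smul_one, Algebra.algebraMap_eq_smul_one, TensorProduct.tmul_smul,
        TensorProduct.smul_tmul'] }

/-- Elements of `L ⊗ E` come from finite subextensions. -/
theorem exists_finite_sub {E L : Type u} [Field E] [Algebra k E] [Algebra.IsAlgebraic k E] [Field L] [Algebra k L]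
    (z : L ⊗[k] E) : ∃ (s : Finset E), ∀ E' : IntermediateField k E, (s : Set E) ⊆ E' →
      z ∈ (Algebra.TensorProduct.map (AlgHom.id k L) E'.val : L ⊗[k] E' →ₐ[k] L ⊗[k] E).range := by
  classical
  induction z with
  | zero => exact ⟨∅, fun E' _ => ⟨0, map_zero _⟩⟩
  | add x y hx hy =>
    obtain ⟨s, hs⟩ := hx
    obtain ⟨t, ht⟩ := hy
    refine ⟨s ∪ t, fun E' h => ?_⟩
    rw [Finset.coe_union, Set.union_subset_iff] at h
    exact Subalgebra.add_mem _ (hs E' h.1) (ht E' h.2)
  | tmul a e =>
    refine ⟨{e}, fun E' h => ⟨a ⊗ₜ ⟨e, h (by simp)⟩, rfl⟩⟩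

/-- **Lang's theorem** for the units of `L ⊗ E`. -/
theorem exists_lang {E L : Type u} [Field E] [Algebra k E] [Algebra.IsAlgebraic k E] [Field L] [Algebra k L]
    (x : (L ⊗[k] E)ˣ) :
    ∃ (L' : Type u) (_ : Field L') (_ : Algebra L L') (_ : Algebra k L') (_ : IsScalarTower k L L')
      (_ : FiniteDimensional L L') (_ : Algebra.IsSeparable L L') (y : (L' ⊗[k] E)ˣ),
      F k E L' y = bcL k E (IsScalarTower.toAlgHom k L L') x * y := by
  classical
  obtain ⟨s, hs⟩ := exists_finite_sub k (x : L ⊗[k] E)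
  obtain ⟨t, ht⟩ := exists_finite_sub k ((x⁻¹ : (L ⊗[k] E)ˣ) : L ⊗[k] E)
  let E' : IntermediateField k E := IntermediateField.adjoin k ((s ∪ t : Finset E) : Set E)
  have hE' : FiniteDimensional k E' := IntermediateField.finiteDimensional_adjoin
    fun e _ => Algebra.IsIntegral.isIntegral e
  have hsub : ((s ∪ t : Finset E) : Set E) ⊆ E' := IntermediateField.subset_adjoin k _
  rw [Finset.coe_union, Set.union_subset_iff] at hsub
  obtain ⟨x₁, hx₁⟩ := hs E' hsub.1
  obtain ⟨x₂, hx₂⟩ := ht E' hsub.2
  let ι₀ : L ⊗[k] E' →ₐ[k] L ⊗[k] E := Algebra.TensorProduct.map (AlgHom.id k L) E'.val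
  have hinj : Function.Injective ι₀ := by
    have h1 : Function.Injective (LinearMap.lTensor L (E'.val : E' →ₐ[k] E).toLinearMap) :=
      Module.Flat.lTensor_preserves_injective_linearMap _ E'.val.injective
    exact h1
  have h12 : x₁ * x₂ = 1 := by
    apply hinj
    have e0 : ι₀ (1 : L ⊗[k] E') = 1 := ι₀.toRingHom.map_one
    rw [map_mul, e0]
    have e1 : ι₀ x₁ = x := hx₁
    have e2 : ι₀ x₂ = ((x⁻¹ : (L ⊗[k] E)ˣ) : L ⊗[k] E) := hx₂
    rw [e1, e2, Units.mul_inv]
  obtain ⟨L₁, _, _, _, _, _, _, ⟨ρ⟩⟩ := exists_embed k E' L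
  let i₁ : L →ₐ[k] L₁ := IsScalarTower.toAlgHom k L L₁
  let x' : (L₁ ⊗[k] E')ˣ := Units.map (bcL k E' i₁).toRingHom.toMonoidHom ⟨x₁, x₂, h12, by rw [mul_comm, h12]⟩
  obtain ⟨L', _, _, _, _, _, _, y, hy⟩ := exists_lang_fin k ρ x'
  let _ : Algebra L L' := ((algebraMap L₁ L').comp (algebraMap L L₁)).toAlgebra
  have : IsScalarTower L L₁ L' := IsScalarTower.of_algebraMap_eq fun _ => rfl
  have : IsScalarTower k L L' := IsScalarTower.of_algebraMap_eq fun a => by
    rw [IsScalarTower.algebraMap_apply k L₁ L', IsScalarTower.algebraMap_apply k L L₁]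
    rfl
  have hfin : FiniteDimensional L L' := FiniteDimensional.trans L L₁ L'
  have hsep : Algebra.IsSeparable L L' := Algebra.IsSeparable.trans L L₁ L'
  let ι' : L' ⊗[k] E' →ₐ[k] L' ⊗[k] E := Algebra.TensorProduct.map (AlgHom.id k L') E'.val
  refine ⟨L', inferInstance, inferInstance, inferInstance, inferInstance, hfin, hsep,
    Units.map ι'.toRingHom.toMonoidHom y, ?_⟩
  have hFι : ∀ z : L' ⊗[k] E', F k E L' (ι' z) = ι' (F k E' L' z) := by
    intro z
    induction z with
    | zero => simp only [map_zero]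
    | add x y hx hy => simp only [map_add, hx, hy]
    | tmul a e => rfl
  have hbc : ∀ z : L ⊗[k] E', ι' (bcL k E' (IsScalarTower.toAlgHom k L₁ L') (bcL k E' i₁ z)) =
      bcL k E (IsScalarTower.toAlgHom k L L') (ι₀ z) := by
    intro z
    induction z with
    | zero => simp only [map_zero]
    | add x y hx hy => simp only [map_add, hx, hy]
    | tmul a e => rfl
  change F k E L' (ι' y) = bcL k E (IsScalarTower.toAlgHom k L L') x * ι' y
  rw [hFι, hy, map_mul]
  congr 1
  have e1 : ι₀ x₁ = x := hx₁
  rw [← e1, ← hbc]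
  rfl

end main

end K773.LangAlg
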