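import Groth.Agent.TateLoc.K773.Perf
import Groth.Agent.TateLoc.K773.EtLike
import Groth.Agent.S2969
import Groth.Agent.Sga3A.FibMain

/-!
# The dual sheaf of a group of multiplicative type over a field comes from the small étale site
-/

set_option autoImplicit false
universe u

open CategoryTheory MonoidalCategory CartesianMonoidalCategory MonObj GrpObj AlgebraicGeometry Limits Opposite
open TensorProduct
open Groth.Agent.Books.AffBridge Groth.Agent.Books.AffBridge2 Groth.Agent.Etdl.H432.Sec
open Groth.Agent.CurvesA Groth.Agent.CurvesA.EtFieldObj K771.HomEv K771.Pts Groth.Agent.Sga3A.MTBasis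

noncomputable section

namespace K773.Mult

section alg

variable {K : Type u} [Field K] {A : Type u} [CommRing A] [HopfAlgebra K A] {L : Type u} [Field L] [Algebra K L]

/-- Locally, group-like elements are the given ones. -/
theorem exists_local [FiniteDimensional K L] [Algebra.IsSeparable K L] {Λ : Type u} [CommGroup Λ]
    (g : GBasis L (L ⊗[K] A) Λ) (R₀ : Type u) [CommRing R₀] [Algebra K R₀] (χ₀ : R₀ ⊗[K] A)
    (hχ : IsGroupLikeElem R₀ χ₀) (p : PrimeSpectrum R₀) :
    ∃ (R' : Type u) (_ : CommRing R') (_ : Algebra K R') (φ : L →ₐ[K] R') (ψ : R₀ →ₐ[K] R') (m : Λ),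
      ψ.toRingHom.Etale ∧ p ∈ Set.range (PrimeSpectrum.comap ψ.toRingHom) ∧ bc A ψ χ₀ = bc A φ (g.b m) := by
  classical
  let R := R₀ ⊗[K] L
  let i₁ : L →ₐ[K] R := Algebra.TensorProduct.includeRight
  let i₂ : R₀ →ₐ[K] R := Algebra.TensorProduct.includeLeft
  have hKL : Algebra.Etale K L := by
    have : Algebra.FormallyEtale K L := Algebra.FormallyEtale.of_isSeparable K L
    exact ⟨inferInstance, Algebra.FinitePresentation.of_finiteType.1 inferInstance⟩
  have he : i₂.toRingHom.Etale := by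
    have h1 : (algebraMap R₀ R).Etale := RingHom.etale_algebraMap.2 inferInstance
    exact h1
  have hs : Function.Surjective (PrimeSpectrum.comap i₂.toRingHom) :=
    PrimeSpectrum.comap_surjective_of_faithfullyFlat (A := R₀) (B := R)
  obtain ⟨q, hq⟩ := hs p
  let x := bc A i₂ χ₀
  have hx : IsGroupLikeElem R x := isGroupLikeElem_bc i₂ hχ
  let g' := g.bc i₁
  have hsum := g'.sum_repr hx
  obtain ⟨m, hm⟩ : ∃ m, g'.b.repr x m ∉ q.asIdeal := by
    by_contra hcon
    push Not at hcon
    apply q.isPrime.ne_top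
    rw [Ideal.eq_top_iff_one, ← hsum]
    exact Ideal.sum_mem _ fun m _ => hcon m
  let a := g'.b.repr x m
  let R' := Localization.Away a
  let l : R →ₐ[K] R' := Algebra.algHom K R R'
  refine ⟨R', inferInstance, inferInstance, l.comp i₁, l.comp i₂, m, ?_, ?_, ?_⟩
  · have h1 : (algebraMap R R').Etale := RingHom.etale_algebraMap.2 (Algebra.Etale.of_isLocalizationAway a)
    exact RingHom.Etale.stableUnderComposition _ _ he h1
  · have h1 : q ∈ Set.range (PrimeSpectrum.comap (algebraMap R R')) := by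
      rw [PrimeSpectrum.localization_away_comap_range R' a]
      exact hm
    obtain ⟨q', rfl⟩ := h1
    exact ⟨q', hq⟩
  · rw [← bc_bc, ← bc_bc, ← GBasis.bc_b g i₁ m, ← GBasis.bc_b g' l m]
    apply GBasis.eq_of_repr_eq_one
    · exact isGroupLikeElem_bc l hx
    · rw [GBasis.bc_repr]
      have h1 : a * a = a := by
        have := g'.repr_mul_repr hx m m
        rwa [if_pos rfl] at this
      have h2 : IsUnit (l a) := IsLocalization.Away.algebraMap_isUnit a
      refine h2.mul_left_cancel ?_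
      rw [← map_mul, h1, _root_.mul_one]

end alg

section sheaf

variable {K : Type u} [Field K] {A : Type u} [CommRing A] [HopfAlgebra K A] [IsCommMonObj (SpecOver K A)]

open K826.AffHom in
/-- Affine objects over `Spec K`. -/
theorem exists_specOver_iso (T : Over (Spec (CommRingCat.of K))) [IsAffine T.left] :
    ∃ (R : Type u) (_ : CommRing R) (_ : Algebra K R), Nonempty (SpecOver K R ≅ T) := by
  let _ : Algebra K Γ(T.left, ⊤) := (str T).toAlgebra
  refine ⟨Γ(T.left, ⊤), inferInstance, inferInstance, ⟨(Over.isoMk (f := T) (g := SpecOver K Γ(T.left, ⊤))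
    T.left.isoSpec ?_).symm⟩⟩
  apply gl_injective (E := K)
  change gl (T.left.toSpecΓ ≫ Spec.map (CommRingCat.ofHom (str T))) = str T
  have h1 : CommRingCat.ofHom (gl (T.left.toSpecΓ ≫ Spec.map (CommRingCat.ofHom (str T)))) =
      CommRingCat.ofHom (str T) := by
    rw [ofHom_gl, Scheme.Hom.comp_appTop, ← Category.assoc, ← Scheme.ΓSpecIso_inv_naturality, Category.assoc,
      Scheme.toSpecΓ_appTop, Iso.inv_hom_id]
    exact Category.comp_id _
  exact congrArg (fun f => f.hom) h1

/-- A character which vanishes at a point of `T ⟶ U` vanishes étale-locally on `U`. -/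
theorem inj (T : Over (Spec (CommRingCat.of K))) (U : (Spec (CommRingCat.of K)).Etale)
    (h : T ⟶ (EtFppf.a _).obj U) (t : Γs (Perf.D K A) ((EtFppf.a _).obj U)) (ht : r (Perf.D K A) h t = 0)
    (x : T.left) : ∃ (W : (Spec (CommRingCat.of K)).Etale) (g : W ⟶ U), h.left x ∈ Set.range g.left ∧
      r (Perf.D K A) ((EtFppf.a _).map g) t = 0 := by
  obtain ⟨L', _, _, _, _, g, hg, y, hy⟩ := exists_field_hit U (h.left x)
  refine ⟨etObj K L', homMk g hg, ⟨y, hy⟩, ?_⟩
  let hl : T.left ⟶ U.left := h.left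
  let P := pullback hl g
  let f₁ : P ⟶ T.left := pullback.fst hl g
  let f₂ : P ⟶ Spec (CommRingCat.of L') := pullback.snd hl g
  have hcond : f₁ ≫ hl = f₂ ≫ g := pullback.condition
  obtain ⟨z, hz1, hz2⟩ := Scheme.Pullback.exists_preimage_pullback (f := hl) (g := g) x y hy.symm
  let Ω := P.residueField z
  let j : Spec Ω ⟶ P := P.fromSpecResidueField z
  let v : Spec (CommRingCat.of Ω) ⟶ Spec (CommRingCat.of L') := j ≫ f₂
  obtain ⟨φ, hφ⟩ := Spec.map_surjective v
  let _ : Algebra K Ω := (φ.hom.comp (algebraMap K L')).toAlgebra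
  let φ' : L' →ₐ[K] Ω := { φ.hom with commutes' := fun _ => rfl }
  have h2 : (j ≫ f₁) ≫ hl = v ≫ g := by
    rw [Category.assoc, hcond]
    rfl
  have hU : hl ≫ U.hom = T.hom := Over.w h
  let w : SpecOver K Ω ⟶ T := Over.homMk (j ≫ f₁ : Spec Ω ⟶ T.left) (by
    have h3 : (j ≫ f₁) ≫ T.hom = Spec.map φ ≫ Spec.map (CommRingCat.ofHom (algebraMap K L')) := by
      rw [← hU, ← Category.assoc, h2, Category.assoc, hg, hφ]
    exact h3.trans (Spec.map_comp (CommRingCat.ofHom (algebraMap K L')) φ).symm)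
  have hw : specMap K φ' ≫ (EtFppf.a _).map (homMk g hg) = w ≫ h := by
    apply Over.OverMorphism.ext
    have h3 : Spec.map φ ≫ g = (j ≫ f₁) ≫ hl := by rw [h2, hφ]
    exact h3
  let t' : Γs (Perf.D K A) (SpecOver K L') := r (Perf.D K A) ((EtFppf.a _).map (homMk g hg)) t
  have h4 : r (Perf.D K A) (specMap K φ') t' = 0 := by
    have h5 := r_r (Perf.D K A) ((EtFppf.a _).map (homMk g hg)) (specMap K φ') t
    have h6 : r (Perf.D K A) (w ≫ h) t = 0 := by rw [← r_r, ht, map_zero]
    exact h5.trans ((congrArg (fun m => r (Perf.D K A) m t) hw).trans h6)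
  change t' = 0
  apply CharSec.ch_injective
  apply FGStab.bc_injective (A := A) φ'
  have h5 := CharSec.ch_r φ' t'
  rw [h4, CharSec.ch_zero] at h5
  rw [CharSec.ch_zero, map_one]
  exact h5.symm

theorem etLike [Algebra.FiniteType K A] (hA : SGA3b.IsMultTypeConst K A) : EtLk.EtLike (Perf.D K A) where
  surj T s x := by
    obtain ⟨L, _, _, hfin, hsep, Λ, _, -, ⟨ε⟩⟩ := Groth.Agent.S2969.result K A inferInstance
      (Groth.Agent.Sga3A.FibMain.isMultType_of_const hA)
    have : FiniteDimensional K L := hfin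
    let gb : GBasis L (L ⊗[K] A) Λ := GBasis.ofBialgEquiv ε
    obtain ⟨V, hV, hxV, -⟩ := exists_isAffineOpen_mem_and_subset (X := T.left) (x := x) (U := ⊤) trivial
    let T₀ : Over (Spec (CommRingCat.of K)) := Over.mk (V.ι ≫ T.hom)
    let i : T₀ ⟶ T := Over.homMk V.ι rfl
    have : IsAffine T₀.left := hV
    obtain ⟨R₀, _, _, ⟨e⟩⟩ := exists_specOver_iso T₀
    let s₀ : Γs (Perf.D K A) (SpecOver K R₀) := r (Perf.D K A) (e.hom ≫ i) s
    let x₀ : T₀.left := ⟨x, hxV⟩
    have hee : IsIso e.hom.left := inferInstanceAs (IsIso ((Over.forget _).map e.hom))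
    obtain ⟨p, hp⟩ : ∃ p : (SpecOver K R₀).left, e.hom.left p = x₀ := by
      refine ⟨e.inv.left x₀, ?_⟩
      have h1 : e.inv.left ≫ e.hom.left = 𝟙 _ := by rw [← Over.comp_left, e.inv_hom_id]; rfl
      have h2 : (e.inv.left ≫ e.hom.left) x₀ = x₀ := by rw [h1]; rfl
      rw [Scheme.Hom.comp_apply] at h2
      exact h2
    obtain ⟨R', _, _, φ, ψ, m, hψ, ⟨q, hq⟩, hm⟩ := exists_local gb R₀ (CharSec.ch s₀) (CharSec.isGroupLike_ch s₀) p
    refine ⟨SpecOver K R', specMap K ψ ≫ e.hom ≫ i, etObj K L, specMap K φ, CharSec.ofGL (gb.b m) (gb.gl m), ?_, ?_, ?_⟩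
    · have h1 : Etale (specMap K ψ).left := by
        have h0 : Etale (Spec.map (CommRingCat.ofHom ψ.toRingHom)) := by
          rw [HasRingHomProperty.Spec_iff (P := @Etale)]
          exact hψ
        exact h0
      have h2 : Etale i.left := inferInstanceAs (Etale V.ι)
      rw [Over.comp_left, Over.comp_left]
      infer_instance
    · refine ⟨q, ?_⟩
      have h1 : (specMap K ψ).left q = p := hq
      have h2 : i.left x₀ = x := rfl
      rw [Over.comp_left, Over.comp_left, Scheme.Hom.comp_apply, Scheme.Hom.comp_apply, h1, hp]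
      rfl
    · rw [← r_r]
      change r (Perf.D K A) (specMap K ψ) s₀ = _
      apply CharSec.ch_injective
      rw [CharSec.ch_r]
      have h1 := CharSec.ch_r φ (CharSec.ofGL (k := K) (gb.b m) (gb.gl m))
      rw [CharSec.ch_ofGL] at h1
      exact hm.trans h1.symm
  inj T U h t ht x := inj T U h t ht x

end sheaf

end K773.Mult
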