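import Groth.Agent.TateLoc.K773.CharSec
import Groth.Agent.TateLoc.K773.FGStab
import Groth.Agent.TateLoc.K773.EtExp
import Groth.Agent.GaDual.K771.PerfRes

/-!
# The restriction of the dual sheaf to the small étale site of a field

* `exists_stable_dual`: over a finite separable `L / K` all characters are defined; a fixed integer kills all characters
  of finite order;
* `exponent_et`, `torsion_et`: consequences for `H^q_et(K, Ĝ)`;
* transport to any affine commutative group scheme of finite type.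
-/

set_option autoImplicit false
universe u

open CategoryTheory MonoidalCategory CartesianMonoidalCategory MonObj GrpObj AlgebraicGeometry Limits Opposite
open TensorProduct
open Groth.Agent.Books.AffBridge Groth.Agent.Books.AffBridge2 Groth.Agent.Etdl.H432.Sec
open Groth.Agent.CurvesA Groth.Agent.CurvesA.EtFieldObj K771.HomEv K771.Pts

noncomputable section

namespace K773.Perf

theorem isCommMonObj_of_iso {C : Type*} [Category C] [CartesianMonoidalCategory C] [BraidedCategory C] {G H : C}
    [MonObj G] [MonObj H] [IsCommMonObj G] (e : G ≅ H) [IsMonHom e.hom] : IsCommMonObj H := by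
  rw [isCommMonObj_iff_isMulCommutative]
  intro X
  have h := (isCommMonObj_iff_isMulCommutative G).1 inferInstance X
  refine ⟨⟨fun a b => ?_⟩⟩
  have h1 := h.is_comm.comm (a ≫ e.inv) (b ≫ e.inv)
  have h2 := congrArg (· ≫ e.hom) h1
  simp only [MonObj.mul_comp, Category.assoc, Iso.inv_hom_id, Category.comp_id] at h2
  exact h2

section transport

variable {S : Scheme.{u}} {G H : Over S} [GrpObj G] [IsCommMonObj G] [GrpObj H] [IsCommMonObj H]

/-- The isomorphism of sheaves of points. -/
def ptsIso (e : G ≅ H) [IsMonHom e.hom] :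
    CGrpSh.pts Scheme.fppfPrecoverage G ≅ CGrpSh.pts Scheme.fppfPrecoverage H where
  hom := CGrpSh.ptsMap Scheme.fppfPrecoverage e.hom
  inv := CGrpSh.ptsMap Scheme.fppfPrecoverage e.inv
  hom_inv_id := by
    rw [← CGrpSh.ptsMap_comp]
    have h : e.hom ≫ e.inv = 𝟙 G := e.hom_inv_id
    simp only [h, CGrpSh.ptsMap_id]
  inv_hom_id := by
    rw [← CGrpSh.ptsMap_comp]
    have h : e.inv ≫ e.hom = 𝟙 H := e.inv_hom_id
    simp only [h, CGrpSh.ptsMap_id]

/-- The isomorphism of dual sheaves. -/
def dualIso (e : G ≅ H) [IsMonHom e.hom] :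
    CGrpSh2.dualSh Scheme.fppfPrecoverage (CGrpSh.pts Scheme.fppfPrecoverage H) ≅
      CGrpSh2.dualSh Scheme.fppfPrecoverage (CGrpSh.pts Scheme.fppfPrecoverage G) :=
  (CGrpSh2.dualFunctor Scheme.fppfPrecoverage S).mapIso (ptsIso e).op

/-- The isomorphism on cohomology of the dual sheaves. -/
def dualHEquiv (e : G ≅ H) [IsMonHom e.hom] (n : ℕ) :
    BigSite.H Scheme.fppfPrecoverage S
      (CGrpSh2.dualSh Scheme.fppfPrecoverage (CGrpSh.pts Scheme.fppfPrecoverage H)) n ≃+
    BigSite.H Scheme.fppfPrecoverage S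
      (CGrpSh2.dualSh Scheme.fppfPrecoverage (CGrpSh.pts Scheme.fppfPrecoverage G)) n :=
  K809.Les.mpEquiv _ (dualIso e) n

end transport

section field

variable {K : Type u} [Field K]

theorem a_map_etMap {L N : Type u} [Field L] [Algebra K L] [FiniteDimensional K L] [Algebra.IsSeparable K L]
    [Field N] [Algebra K N] [FiniteDimensional K N] [Algebra.IsSeparable K N] (φ : L →ₐ[K] N) :
    (EtFppf.a (Spec (CommRingCat.of K))).map (etMap φ) = specMap K φ := rfl

variable {A : Type u} [CommRing A] [HopfAlgebra K A] [IsCommMonObj (SpecOver K A)] [Algebra.FiniteType K A]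

variable (K A) in
/-- The dual sheaf. -/
abbrev D : EtFppf.AbF (Spec (CommRingCat.of K)) := hom (CharSec.GA K A) (Gm _)

variable (K A) in
theorem exists_stable_dual :
    ∃ (L : Type u) (_ : Field L) (_ : Algebra K L) (_ : FiniteDimensional K L) (_ : Algebra.IsSeparable K L) (t : ℕ),
      0 < t ∧
      (∀ (N : Type u) [Field N] [Algebra K N] [FiniteDimensional K N] [IsGalois K N]
        (f : etObj K N ⟶ etObj K L), Function.Surjective (((EtFppf.aPush _).obj (D K A)).obj.map f.op)) ∧
      (∀ (N : Type u) [Field N] [Algebra K N] [FiniteDimensional K N] [IsGalois K N]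
        (s : ((EtFppf.aPush _).obj (D K A)).obj.obj (op (etObj K N))), IsOfFinAddOrder s → t • s = 0) := by
  obtain ⟨L, _, _, _, _, t, ht, h1, h2⟩ := FGStab.exists_stable (K := K) (A := A)
  refine ⟨L, inferInstance, inferInstance, inferInstance, inferInstance, t, ht, ?_, ?_⟩
  · intro N _ _ _ _ f s
    obtain ⟨φ, rfl⟩ := exists_etMap_eq f
    let s' : Γs (D K A) (SpecOver K N) := s
    obtain ⟨x, hx, hxy⟩ := h1 N φ (CharSec.ch s') (CharSec.isGroupLike_ch s')
    refine ⟨CharSec.ofGL x hx, ?_⟩
    change r (D K A) (specMap K φ) (CharSec.ofGL x hx) = s'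
    apply CharSec.ch_injective
    rw [CharSec.ch_r, CharSec.ch_ofGL]
    exact hxy
  · intro N _ _ _ _ s hs
    let s' : Γs (D K A) (SpecOver K N) := s
    change t • s' = 0
    have hs' : IsOfFinAddOrder s' := hs
    apply CharSec.ch_injective
    rw [CharSec.ch_nsmul, CharSec.ch_zero]
    refine h2 N _ (CharSec.isGroupLike_ch s') ?_
    obtain ⟨n, hn, h⟩ := isOfFinAddOrder_iff_nsmul_eq_zero.1 hs'
    rw [isOfFinOrder_iff_pow_eq_one]
    exact ⟨n, hn, by rw [← CharSec.ch_nsmul, h, CharSec.ch_zero]⟩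

variable (K A) in
theorem exponent_et : ∃ n : ℕ, 0 < n ∧
    ∀ x : EtCoh.H (Spec (CommRingCat.of K)) ((EtFppf.aPush _).obj (D K A)) 1, n • x = 0 := by
  obtain ⟨L, _, _, _, _, t, ht, h1, h2⟩ := exists_stable_dual K A
  exact EtExp.exists_exponent _ L t ht h1 h2

variable (K A) in
/-- The perfect case, `H¹`. -/
theorem exponent_perfect [PerfectField K] : ∃ n : ℕ, 0 < n ∧ ∀ x : EtFppf.HF _ (D K A) 1, n • x = 0 := by
  obtain ⟨n, hn, h⟩ := exponent_et K A
  obtain ⟨e⟩ := K771.PerfRes.nonempty_hEquiv K (D K A) 1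
  refine ⟨n, hn, fun x => e.symm.injective ?_⟩
  rw [map_nsmul, h, map_zero]

variable (K A) in
/-- The perfect case, `H^q`, `q > 0`. -/
theorem torsion_perfect [PerfectField K] (q : ℕ) (x : EtFppf.HF _ (D K A) (q + 1)) : ∃ n : ℕ, 0 < n ∧ n • x = 0 := by
  obtain ⟨e⟩ := K771.PerfRes.nonempty_hEquiv K (D K A) (q + 1)
  obtain ⟨n, hn, h⟩ := EtExp.exists_nsmul_H _ q (e.symm x)
  refine ⟨n, hn, e.symm.injective ?_⟩
  rw [map_nsmul, h, map_zero]

end field

end K773.Perf
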