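import Mathlib.RingTheory.Henselian
import Mathlib.FieldTheory.Finite.Basic
import Mathlib.Algebra.CharP.Frobenius
import Mathlib.RingTheory.TensorProduct.Finite
import Mathlib.RingTheory.Artinian.Module
import Mathlib.RingTheory.Artinian.Ring

/-!
# Coefficient fields, and finiteness of `N ⊗ E` over `K ⊗ E`
-/

set_option autoImplicit false
universe u

open IsLocalRing Polynomial TensorProduct

noncomputable section

namespace K773.ScdCoef

/-- A henselian local ring of characteristic `p` with finite residue field contains a coefficient field. -/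
theorem exists_section (R : Type u) [CommRing R] [HenselianLocalRing R] [Finite (ResidueField R)] (p : ℕ) [hp : Fact p.Prime]
    [CharP R p] : ∃ s : ResidueField R →+* R, ∀ x, residue R (s x) = x := by
  have hpk : CharP (ResidueField R) p := by
    refine (CharP.charP_iff_prime_eq_zero hp.out).2 ?_
    rw [← map_natCast (residue R), CharP.cast_eq_zero, map_zero]
  have _ := Fintype.ofFinite (ResidueField R)
  obtain ⟨n, -, hn⟩ := FiniteField.card (ResidueField R) p
  have hq1 : 1 < p ^ (n : ℕ) := one_lt_pow₀ hp.out.one_lt n.2.ne'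
  let S : Subring R := RingHom.eqLocus (iterateFrobenius R p n) (RingHom.id R)
  have hS : ∀ a : R, a ∈ S ↔ a ^ p ^ (n : ℕ) = a := fun a => Iff.rfl
  let g : S →+* ResidueField R := (residue R).comp S.subtype
  have hinj : Function.Injective g := by
    rw [injective_iff_map_eq_zero]
    intro a ha
    have h1 : (a : R) ^ p ^ (n : ℕ) = a := a.2
    have h2 : residue R (a : R) = 0 := ha
    have h3 : (a : R) * (1 - (a : R) ^ (p ^ (n : ℕ) - 1)) = 0 := by
      rw [mul_sub, mul_one, ← pow_succ', Nat.sub_add_cancel hq1.le, h1, sub_self]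
    have h4 : IsUnit (1 - (a : R) ^ (p ^ (n : ℕ) - 1)) := by
      rw [← residue_ne_zero_iff_isUnit, map_sub, map_one, map_pow, h2, zero_pow (Nat.sub_ne_zero_of_lt hq1), sub_zero]
      exact one_ne_zero
    apply Subtype.ext
    exact (h4.mul_left_eq_zero).1 h3
  have hsur : Function.Surjective g := by
    intro x
    obtain ⟨a₀, rfl⟩ := residue_surjective x
    have h1 : (residue R a₀) ^ p ^ (n : ℕ) = residue R a₀ := by
      rw [← hn]
      exact FiniteField.pow_card _
    obtain ⟨a, ha, haa⟩ := HenselianLocalRing.is_henselian (X ^ p ^ (n : ℕ) - X : R[X]) (by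
        refine monic_X_pow_sub ?_
        rw [degree_X]
        exact_mod_cast hq1) a₀ (by
        rw [← residue_eq_zero_iff, eval_sub, eval_pow, eval_X, map_sub, map_pow, h1, sub_self]) (by
        have h2 : (0 : R) ^ (n : ℕ) = 0 := zero_pow n.pos.ne'
        rw [derivative_sub, derivative_X_pow, derivative_X, Nat.cast_pow, CharP.cast_eq_zero, h2, map_zero,
          zero_mul, zero_sub, eval_neg, eval_one]
        exact isUnit_one.neg)
    refine ⟨⟨a, ?_⟩, ?_⟩
    · rw [hS]
      rw [IsRoot.def, eval_sub, eval_pow, eval_X, sub_eq_zero] at ha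
      exact ha
    · change residue R a = residue R a₀
      rw [← sub_eq_zero, ← map_sub, residue_eq_zero_iff]
      exact haa
  let e := RingEquiv.ofBijective g ⟨hinj, hsur⟩
  exact ⟨S.subtype.comp e.symm.toRingHom, fun x => e.apply_symm_apply x⟩

section finite

variable (k K N E : Type u) [Field k] [Field K] [Field N] [Algebra k K] [Algebra k N] [Algebra K N] [IsScalarTower k K N]
  [Field E] [Algebra k E] [FiniteDimensional K N]

/-- The map. -/
abbrev mp : K ⊗[k] E →ₐ[K] N ⊗[k] E := Algebra.TensorProduct.map (Algebra.ofId K N) (AlgHom.id k E)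

theorem finite_mp : (mp k K N E).toRingHom.Finite := by
  classical
  let _ : Algebra (K ⊗[k] E) (N ⊗[k] E) := (mp k K N E).toRingHom.toAlgebra
  change Module.Finite (K ⊗[k] E) (N ⊗[k] E)
  let b := Module.finBasis K N
  refine ⟨⟨Finset.univ.image fun i => (b i) ⊗ₜ[k] (1 : E), ?_⟩⟩
  rw [eq_top_iff]
  rintro x -
  induction x with
  | zero => exact zero_mem _
  | add x y hx hy => exact add_mem hx hy
  | tmul n e =>
    rw [← b.sum_repr n, TensorProduct.sum_tmul]
    refine sum_mem fun i _ => ?_
    have h1 : (b.repr n i • b i) ⊗ₜ[k] e = ((b.repr n i) ⊗ₜ[k] e : K ⊗[k] E) • ((b i) ⊗ₜ[k] (1 : E)) := by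
      rw [Algebra.smul_def]
      change _ = mp k K N E ((b.repr n i) ⊗ₜ[k] e) * ((b i) ⊗ₜ[k] (1 : E))
      rw [Algebra.TensorProduct.map_tmul, Algebra.TensorProduct.tmul_mul_tmul, mul_one]
      rfl
    rw [h1]
    refine Submodule.smul_mem _ _ (Submodule.subset_span ?_)
    simp

theorem isArtinianRing (h : IsField (K ⊗[k] E)) : IsArtinianRing (N ⊗[k] E) := by
  let _ : Field (K ⊗[k] E) := h.toField
  let _ : Algebra (K ⊗[k] E) (N ⊗[k] E) := (mp k K N E).toRingHom.toAlgebra
  have h1 : Module.Finite (K ⊗[k] E) (N ⊗[k] E) := finite_mp k K N E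
  exact IsArtinianRing.of_finite (K ⊗[k] E) (N ⊗[k] E)

end finite

end K773.ScdCoef
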