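import Groth.Agent.TateLoc.K773.ScdLat
import Groth.Agent.TateLoc.K773.Mult
import Groth.Agent.TateLoc.K798.CharFG
import Groth.Agent.TateLoc.K620.HopfSeq
import Groth.Agent.TateLoc.K620.Devissage

/-!
# Vanishing of `H^q(K, Ĝ)` for groups of multiplicative type and over perfect fields
-/

set_option autoImplicit false
universe u

open CategoryTheory MonoidalCategory CartesianMonoidalCategory MonObj GrpObj AlgebraicGeometry Limits Opposite
open TensorProduct
open Groth.Agent.Books.AffBridge Groth.Agent.Books.AffBridge2 Groth.Agent.Etdl.H432.Sec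
open Groth.Agent.CurvesA Groth.Agent.CurvesA.EtFieldObj Groth.Agent.CurvesA.EtFieldFin K771.HomEv K771.Pts
open Groth.Agent.CurvesA.EtFieldTr

noncomputable section

namespace K773.ScdDual

variable (K : Type u) [Field K] (A : Type u) [CommRing A] [HopfAlgebra K A] [IsCommMonObj (SpecOver K A)]
  [Algebra.FiniteType K A]

/-- The sections of the dual sheaf over a field are finitely generated. -/
theorem finite_sections (N : Type u) [Field N] [Algebra K N] [FiniteDimensional K N] [Algebra.IsSeparable K N] :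
    Module.Finite ℤ (((EtFppf.aPush _).obj (Perf.D K A)).obj.obj (op (etObj K N))) := by
  have h1 : Group.FG (GroupLike N (N ⊗[K] A)) := Groth.Agent.TateLoc.K798.CharFG.fg_groupLike
  have h2 : Module.Finite ℤ (Additive (GroupLike N (N ⊗[K] A))) := by
    rw [Module.Finite.iff_addGroup_fg]
    infer_instance
  let f : Additive (GroupLike N (N ⊗[K] A)) →+ Γs (Perf.D K A) (SpecOver K N) :=
    { toFun := fun z => CharSec.ofGL z.toMul.val z.toMul.isGroupLikeElem_val
      map_zero' := by
        apply CharSec.ch_injective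
        rw [CharSec.ch_ofGL, CharSec.ch_zero]
        rfl
      map_add' := fun x y => by
        apply CharSec.ch_injective
        rw [CharSec.ch_add, CharSec.ch_ofGL, CharSec.ch_ofGL, CharSec.ch_ofGL]
        rfl }
  have hf : Function.Surjective f := by
    intro s
    refine ⟨Additive.ofMul ⟨CharSec.ch s, CharSec.isGroupLike_ch s⟩, ?_⟩
    apply CharSec.ch_injective
    exact CharSec.ch_ofGL (CharSec.ch s) (CharSec.isGroupLike_ch s)
  exact Module.Finite.of_surjective f.toIntLinearMap hf

/-- The dual sheaf on the small étale site is split by a finite Galois extension. -/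
theorem exists_split : ∃ (N : Type u) (_ : Field N) (_ : Algebra K N) (_ : FiniteDimensional K N) (_ : IsGalois K N),
    Split N ((EtFppf.aPush _).obj (Perf.D K A)) := by
  obtain ⟨L, _, _, _, _, t, ht, h1, h2⟩ := Perf.exists_stable_dual K A
  obtain ⟨M, _, _, _, _, ⟨φ⟩, -⟩ := exists_galois (K := K) L L
  refine ⟨M, inferInstance, inferInstance, inferInstance, inferInstance, fun N' _ _ _ _ b a => ?_⟩
  obtain ⟨c, hc⟩ := h1 N' (b ≫ etMap φ) a
  refine ⟨_, (map_comp_apply _ b (etMap φ) c).symm.trans hc⟩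

/-- The étale cohomology of the dual sheaf. -/
theorem subsingleton_et (q : ℕ)
    (hZ : ∀ (N : Type u) [Field N] [Algebra K N] [FiniteDimensional K N] [IsGalois K N],
      Subsingleton (EtCoh.H (Spec (CommRingCat.of N)) (EtCoh.const _ ℤ) q))
    (h1 : ∀ T : EtCoh.Ab (Spec (CommRingCat.of K)), EtCoh.IsTorsion T → Subsingleton (EtCoh.H _ T q))
    (h2 : ∀ T : EtCoh.Ab (Spec (CommRingCat.of K)), EtCoh.IsTorsion T → Subsingleton (EtCoh.H _ T (q + 1))) :
    Subsingleton (EtCoh.H (Spec (CommRingCat.of K)) ((EtFppf.aPush _).obj (Perf.D K A)) q) := by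
  obtain ⟨N, _, _, _, _, hN⟩ := exists_split K A
  exact ScdLat.subsingleton_H _ q N hN (finite_sections K A N) (hZ N) h1 h2

/-- Multiplicative type. -/
theorem subsingleton_mult (hA : SGA3b.IsMultTypeConst K A) (q : ℕ)
    (hZ : ∀ (N : Type u) [Field N] [Algebra K N] [FiniteDimensional K N] [IsGalois K N],
      Subsingleton (EtCoh.H (Spec (CommRingCat.of N)) (EtCoh.const _ ℤ) q))
    (h1 : ∀ T : EtCoh.Ab (Spec (CommRingCat.of K)), EtCoh.IsTorsion T → Subsingleton (EtCoh.H _ T q))
    (h2 : ∀ T : EtCoh.Ab (Spec (CommRingCat.of K)), EtCoh.IsTorsion T → Subsingleton (EtCoh.H _ T (q + 1))) :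
    Subsingleton (EtFppf.HF _ (Perf.D K A) q) := by
  obtain ⟨e⟩ := EtLk.nonempty_hEquiv (Mult.etLike hA) q
  have := subsingleton_et K A q hZ h1 h2
  exact e.symm.toEquiv.subsingleton

/-- Perfect fields. -/
theorem subsingleton_perf [PerfectField K] (q : ℕ)
    (hZ : ∀ (N : Type u) [Field N] [Algebra K N] [FiniteDimensional K N] [IsGalois K N],
      Subsingleton (EtCoh.H (Spec (CommRingCat.of N)) (EtCoh.const _ ℤ) q))
    (h1 : ∀ T : EtCoh.Ab (Spec (CommRingCat.of K)), EtCoh.IsTorsion T → Subsingleton (EtCoh.H _ T q))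
    (h2 : ∀ T : EtCoh.Ab (Spec (CommRingCat.of K)), EtCoh.IsTorsion T → Subsingleton (EtCoh.H _ T (q + 1))) :
    Subsingleton (EtFppf.HF _ (Perf.D K A) q) := by
  obtain ⟨e⟩ := K771.PerfRes.nonempty_hEquiv K (Perf.D K A) q
  have := subsingleton_et K A q hZ h1 h2
  exact e.symm.toEquiv.subsingleton

omit [IsCommMonObj (SpecOver K A)] [Algebra.FiniteType K A] in
/-- **Perfect fields, group schemes.** -/
theorem subsingleton_of_perfect [PerfectField K] (G : Over (Spec (CommRingCat.of K))) [GrpObj G]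
    [IsCommMonObj G] [IsAffine G.left] [LocallyOfFiniteType G.hom] (q : ℕ)
    (hZ : ∀ (N : Type u) [Field N] [Algebra K N] [FiniteDimensional K N] [IsGalois K N],
      Subsingleton (EtCoh.H (Spec (CommRingCat.of N)) (EtCoh.const _ ℤ) q))
    (h1 : ∀ T : EtCoh.Ab (Spec (CommRingCat.of K)), EtCoh.IsTorsion T → Subsingleton (EtCoh.H _ T q))
    (h2 : ∀ T : EtCoh.Ab (Spec (CommRingCat.of K)), EtCoh.IsTorsion T → Subsingleton (EtCoh.H _ T (q + 1))) :
    Subsingleton (BigSite.H Scheme.fppfPrecoverage (Spec (CommRingCat.of K))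
      (CGrpSh2.dualSh Scheme.fppfPrecoverage (CGrpSh.pts Scheme.fppfPrecoverage G)) q) := by
  obtain ⟨B, _, _, _, e, he, hft⟩ := K620.HopfSeq.exists_model G
  have hB : Algebra.FiniteType K B := hft inferInstance
  have hc : IsCommMonObj (SpecOver K B) := Perf.isCommMonObj_of_iso e
  have h3 : Subsingleton (BigSite.H Scheme.fppfPrecoverage (Spec (CommRingCat.of K))
      (CGrpSh2.dualSh Scheme.fppfPrecoverage (CGrpSh.pts Scheme.fppfPrecoverage (SpecOver K B))) q) :=
    subsingleton_perf K B q hZ h1 h2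
  exact (Perf.dualHEquiv e q).symm.toEquiv.subsingleton

end K773.ScdDual
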