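import Groth.Agent.TateLoc.K773.ScdMain
import Groth.Agent.CurvesA.EtFieldTors

/-!
# Vanishing of `H^q(K, F)` for sheaves `F` which become constant over a finite extension
-/

set_option autoImplicit false
universe u

open CategoryTheory CategoryTheory.Limits AlgebraicGeometry Opposite Abelian
open Groth.Agent.CurvesA Groth.Agent.CurvesA.EtFieldObj Groth.Agent.CurvesA.EtFieldDesc
  Groth.Agent.CurvesA.EtFieldTr Groth.Agent.CurvesA.EtFieldFin Groth.Agent.CurvesA.EtFieldTors
open K773.ScdSh K773.ScdSeq K773.ScdTors Groth.Agent.Lefpen.H717.ConstRed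

noncomputable section

namespace K773.ScdLat

section const

variable {K : Type u} [Field K] (G : EtCoh.Ab (Spec (CommRingCat.of K)))

/-- The map from the constant presheaf. -/
def cp : (Functor.const (X K).Etaleᵒᵖ).obj (G.obj.obj (op (etObj K K))) ⟶ G.obj where
  app U := G.obj.map ((EtFieldH.isTerminal_etObj K).from U.unop).op
  naturality U V f := by
    refine Eq.trans (Category.id_comp _) ?_
    rw [← G.obj.map_comp]
    congr 1
    apply Quiver.Hom.unop_inj
    exact (EtFieldH.isTerminal_etObj K).hom_ext _ _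

variable {G}

theorem isIso_cp (h : ∀ (L : Type u) [Field L] [Algebra K L] [FiniteDimensional K L] [Algebra.IsSeparable K L]
    (b : etObj K L ⟶ etObj K K), Function.Surjective (G.obj.map b.op)) :
    IsIso ((presheafToSheaf (X K).smallEtaleTopology AddCommGrpCat.{u + 1}).map (cp G)) := by
  rw [← GrothendieckTopology.W_iff, GrothendieckTopology.W_iff_isLocallyBijective]
  constructor
  · constructor
    intro U x y hxy
    refine mem_of_fields _ fun N _ _ _ _ b => ⟨N, inferInstance, inferInstance, inferInstance, inferInstance, 𝟙 _, ?_⟩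
    have h1 : G.obj.map ((EtFieldH.isTerminal_etObj K).from (etObj K N)).op x =
        G.obj.map ((EtFieldH.isTerminal_etObj K).from (etObj K N)).op y := by
      have h2 : (EtFieldH.isTerminal_etObj K).from (etObj K N) = b ≫ (EtFieldH.isTerminal_etObj K).from U.unop :=
        (EtFieldH.isTerminal_etObj K).hom_ext _ _
      rw [h2, op_comp, G.obj.map_comp]
      exact congrArg (G.obj.map b.op) hxy
    exact map_injective G _ h1
  · constructor
    intro U s
    refine mem_of_fields _ fun N _ _ _ _ b => ⟨N, inferInstance, inferInstance, inferInstance, inferInstance, 𝟙 _, ?_⟩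
    obtain ⟨a, ha⟩ := h N ((EtFieldH.isTerminal_etObj K).from (etObj K N)) (G.obj.map b.op s)
    refine ⟨a, ?_⟩
    rw [Category.id_comp]
    exact ha

/-- A sheaf on `Spec K` whose restriction maps are onto is constant. -/
theorem nonempty_iso_const (h : ∀ (L : Type u) [Field L] [Algebra K L] [FiniteDimensional K L] [Algebra.IsSeparable K L]
    (b : etObj K L ⟶ etObj K K), Function.Surjective (G.obj.map b.op)) :
    Nonempty ((cS (X K)).obj (G.obj.obj (op (etObj K K))) ≅ G) := by
  exact ⟨(@asIso _ _ _ _ ((presheafToSheaf (X K).smallEtaleTopology AddCommGrpCat.{u + 1}).map (cp G)) (isIso_cp h)) ≪≫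
    asIso ((sheafificationAdjunction (X K).smallEtaleTopology AddCommGrpCat.{u + 1}).counit.app G)⟩

end const

section alg

/-- A finitely generated abelian group is a factor of a free one up to isogeny. -/
theorem exists_maps (M : Type*) [AddCommGroup M] [Module.Finite ℤ M] :
    ∃ (t : ℕ) (_ : 0 < t) (ι : Type) (_ : Fintype ι) (f : ι → (M →+ ℤ)) (g : ι → (ℤ →+ M)),
      ∀ x, t • x = ∑ i, g i (f i x) := by
  classical
  let T := Submodule.torsion ℤ M
  have hfree : Module.Free ℤ (M ⧸ T) := inferInstance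
  let b := Module.finBasis ℤ (M ⧸ T)
  obtain ⟨s, hs⟩ := Submodule.mkQ_surjective T |>.hasRightInverse
  have hT : Module.Finite ℤ T := inferInstance
  obtain ⟨t, ht0, ht⟩ : ∃ t : ℕ, 0 < t ∧ ∀ x ∈ T, t • x = 0 := by
    have h1 : Finite T := by
      have h2 : AddGroup.FG T := by
        rw [← Module.Finite.iff_addGroup_fg]
        exact hT
      refine AddCommGroup.finite_of_fg_isAddTorsion _ fun a => ?_
      rw [isOfFinAddOrder_iff_nsmul_eq_zero]
      obtain ⟨c, hc⟩ := a.2
      refine ⟨(c : ℤ).natAbs, Int.natAbs_pos.2 (nonZeroDivisors.ne_zero c.2), ?_⟩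
      apply Subtype.ext
      change (c : ℤ).natAbs • (a : M) = 0
      have h3 : ((c : ℤ).natAbs : ℤ) • (a : M) = 0 := by
        rcases Int.natAbs_eq (c : ℤ) with h | h
        · rw [← h]
          exact hc
        · rw [← neg_eq_zero, ← neg_smul, ← h]
          exact hc
      rwa [natCast_zsmul] at h3
    refine ⟨Nat.card T, Nat.card_pos, fun x hx => ?_⟩
    have h3 := card_nsmul_eq_zero' (x := (⟨x, hx⟩ : T))
    exact congrArg Subtype.val h3
  refine ⟨t, ht0, Fin (Module.finrank ℤ (M ⧸ T)), inferInstance,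
    fun i => ((b.coord i).comp T.mkQ).toAddMonoidHom, fun i => (t : ℕ) • zmultiplesHom M (s (b i)), fun x => ?_⟩
  have h4 : x - ∑ i, (b.repr (T.mkQ x) i) • s (b i) ∈ T := by
    rw [← Submodule.Quotient.mk_eq_zero]
    change T.mkQ _ = 0
    rw [map_sub, map_sum]
    simp only [map_smul]
    rw [sub_eq_zero]
    conv_lhs => rw [← b.sum_repr (T.mkQ x)]
    refine Finset.sum_congr rfl fun i _ => ?_
    rw [hs (b i)]
  have h5 := ht _ h4
  rw [smul_sub, sub_eq_zero] at h5
  rw [h5, Finset.smul_sum]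
  refine Finset.sum_congr rfl fun i _ => ?_
  rfl

end alg

section main

variable {K : Type u} [Field K]

/-- Maps between constant sheaves. -/
theorem exists_nsmul_const (M : AddCommGrpCat.{u + 1}) (hM : Module.Finite ℤ M) (q : ℕ)
    (hZ : Subsingleton (EtCoh.H (Spec (CommRingCat.of K)) (EtCoh.const (X K) ℤ) q)) :
    ∃ t : ℕ, 0 < t ∧ ∀ x : EtCoh.H (Spec (CommRingCat.of K)) ((cS (X K)).obj M) q, t • x = 0 := by
  obtain ⟨t, ht, ι, _, f, g, hfg⟩ := exists_maps M
  have := additive_constantSheaf (X K)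
  let O := (cS (X K)).obj (AddCommGrpCat.of (ULift.{u + 1, 0} ℤ))
  let f' : ι → (M ⟶ AddCommGrpCat.of (ULift.{u + 1, 0} ℤ)) := fun i =>
    AddCommGrpCat.ofHom (AddEquiv.ulift.symm.toAddMonoidHom.comp (f i))
  let g' : ι → (AddCommGrpCat.of (ULift.{u + 1, 0} ℤ) ⟶ M) := fun i =>
    AddCommGrpCat.ofHom ((g i).comp AddEquiv.ulift.toAddMonoidHom)
  have h1 : t • 𝟙 M = ∑ i, f' i ≫ g' i := by
    apply AddCommGrpCat.homAddEquiv.injective
    rw [map_sum]
    ext x
    rw [AddMonoidHom.finsetSum_apply]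
    exact hfg x
  refine ⟨t, ht, fun x => ?_⟩
  let x' : Ext O ((cS (X K)).obj M) q := x
  have h2 : t • x' = ∑ i, K809.Les.mp O ((cS (X K)).map (g' i)) q (K809.Les.mp O ((cS (X K)).map (f' i)) q x') := by
    rw [← K809.Les.mp_nsmul_id, ← (cS (X K)).map_id, ← Functor.map_nsmul, h1, Functor.map_sum, K809.Les.mp_apply,
      Ext.mk₀_sum, Ext.comp_sum]
    refine Finset.sum_congr rfl fun i _ => ?_
    rw [(cS (X K)).map_comp, ← K809.Les.mp_comp]
    rfl
  refine h2.trans ?_
  refine Finset.sum_eq_zero fun i _ => ?_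
  have h3 : K809.Les.mp O ((cS (X K)).map (f' i)) q x' = 0 := hZ.elim _ _
  rw [h3, map_zero]

/-- Divisibility. -/
theorem exists_nsmul_eq (F : EtCoh.Ab (Spec (CommRingCat.of K))) (q n : ℕ) (hn : 0 < n)
    (h1 : ∀ T : EtCoh.Ab (Spec (CommRingCat.of K)), EtCoh.IsTorsion T → Subsingleton (EtCoh.H _ T q))
    (h2 : ∀ T : EtCoh.Ab (Spec (CommRingCat.of K)), EtCoh.IsTorsion T → Subsingleton (EtCoh.H _ T (q + 1)))
    (x : EtCoh.H (Spec (CommRingCat.of K)) F q) : ∃ y, n • y = x := by
  let O := (cS (X K)).obj (AddCommGrpCat.of (ULift.{u + 1, 0} ℤ))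
  obtain ⟨I, e, m, _, _, hem⟩ : ∃ (I : EtCoh.Ab (Spec (CommRingCat.of K))) (e : F ⟶ I) (m : I ⟶ F)
      (_ : Epi e) (_ : Mono m), e ≫ m = n • 𝟙 F :=
    ⟨Abelian.image (n • 𝟙 F), Abelian.factorThruImage _, Abelian.image.ι _, inferInstance, inferInstance,
      Abelian.image.fac _⟩
  have hS₁ : (ShortComplex.mk m (cokernel.π m) (cokernel.condition m)).ShortExact :=
    { exact := ShortComplex.exact_of_g_is_cokernel _ (cokernelIsCokernel m) }
  have hS₂ : (ShortComplex.mk (kernel.ι e) e (kernel.condition e)).ShortExact :=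
    { exact := ShortComplex.exact_of_f_is_kernel _ (kernelIsKernel e) }
  have hk : n • 𝟙 (kernel e) = 0 := by
    rw [← cancel_mono (kernel.ι e), zero_comp, Preadditive.nsmul_comp, Category.id_comp]
    have h8 : kernel.ι e ≫ (n • 𝟙 F) = 0 := by rw [← hem, ← Category.assoc, kernel.condition, zero_comp]
    rwa [Preadditive.comp_nsmul, Category.comp_id] at h8
  have hc : n • 𝟙 (cokernel m) = 0 := by
    rw [← cancel_epi (cokernel.π m), comp_zero, Preadditive.comp_nsmul, Category.comp_id]
    have h8 : (n • 𝟙 F) ≫ cokernel.π m = 0 := by rw [← hem, Category.assoc, cokernel.condition, comp_zero]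
    rwa [Preadditive.nsmul_comp, Category.id_comp] at h8
  have s1 : Subsingleton (Ext O (cokernel m) q) := h1 _ (K809.InfVan.isTorsion_of_nsmul hn hc)
  have s2 : Subsingleton (Ext O (kernel e) (q + 1)) := h2 _ (K809.InfVan.isTorsion_of_nsmul hn hk)
  let x' : Ext O F q := x
  obtain ⟨z, hz⟩ := (K809.Les.exact₂ O hS₁ q x').1 (s1.elim _ _)
  obtain ⟨y, hy⟩ := (K809.Les.exact₃ O hS₂ q z).1 (s2.elim _ _)
  refine ⟨y, ?_⟩
  change n • (y : Ext O F q) = x'
  rw [← K809.Les.mp_nsmul_id, ← hem, K809.Les.mp_comp]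
  exact (congrArg (K809.Les.mp O m q) hy).trans hz

/-- **Vanishing.** `F` becomes constant with finitely generated value over the Galois extension `N`. -/
theorem subsingleton_H (F : EtCoh.Ab (Spec (CommRingCat.of K))) (q : ℕ)
    (N : Type u) [Field N] [Algebra K N] [FiniteDimensional K N] [IsGalois K N] (hN : Split N F)
    (hfg : Module.Finite ℤ (F.obj.obj (op (etObj K N))))
    (hZ : Subsingleton (EtCoh.H (Spec (CommRingCat.of N)) (EtCoh.const (X N) ℤ) q))
    (h1 : ∀ T : EtCoh.Ab (Spec (CommRingCat.of K)), EtCoh.IsTorsion T → Subsingleton (EtCoh.H _ T q))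
    (h2 : ∀ T : EtCoh.Ab (Spec (CommRingCat.of K)), EtCoh.IsTorsion T → Subsingleton (EtCoh.H _ T (q + 1))) :
    Subsingleton (EtCoh.H (Spec (CommRingCat.of K)) F q) := by
  have hsp : Split N (R N F) := split_R (L := N) hN
  obtain ⟨e⟩ := nonempty_iso_const (G := R N F) (fun L _ _ _ _ b => Split.sep hsp L b)
  have hfg' : Module.Finite ℤ ((R N F).obj.obj (op (etObj N N))) := by
    let c := F.obj.map (compIso (K := K) (L := N) N).hom.op
    have hc : Function.Surjective c := (bijective_iso F (compIso (K := K) (L := N) N)).2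
    exact Module.Finite.of_surjective (c.hom.toIntLinearMap) hc
  obtain ⟨t, ht, hx⟩ := exists_nsmul_const _ hfg' q hZ
  have h3 : ∀ x : Ext (ZL K N) F q, t • x = 0 := by
    intro x
    let e1 := AcycEtale.extEquivH (etObj K N) F q
    let e2 := K809.Les.mpEquiv ((cS (X N)).obj (AddCommGrpCat.of (ULift.{u + 1, 0} ℤ))) e q
    have h5 : ∀ z : Ext ((cS (X N)).obj (AddCommGrpCat.of (ULift.{u + 1, 0} ℤ))) (R N F) q, t • z = 0 := by
      intro z
      apply e2.symm.injective
      rw [map_zero, map_nsmul]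
      exact hx _
    have h6 : e1 (t • x) = 0 := (map_nsmul e1 t x).trans (h5 (e1 x))
    exact (e1.injective (h6.trans (map_zero e1).symm))
  have h4 : ∀ x : EtCoh.H (Spec (CommRingCat.of K)) F q, (Module.finrank K N * t) • x = 0 := by
    intro x
    apply (EtFieldH.HEquiv F q).injective
    rw [map_nsmul, map_zero, mul_smul]
    refine EtExp.nsmul_of_res_zero F q N _ ?_
    rw [map_nsmul]
    exact h3 _
  refine subsingleton_of_forall_eq 0 fun x => ?_
  obtain ⟨y, rfl⟩ := exists_nsmul_eq F q _ (Nat.mul_pos (Module.finrank_pos (R := K) (M := N)) ht) h1 h2 x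
  exact h4 y

end main

end K773.ScdLat
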