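import Groth.Agent.TateLoc.K773.LangAlg
import Groth.Agent.TateLoc.K773.CharSec
import Groth.Agent.CurvesA.EtFieldTr
import Groth.Agent.CurvesA.EtFieldH
import Groth.Prelude.Def_EtGm

/-!
# The sheaf `J = π_* G_m` for `π : Spec (K ⊗ E) ⟶ Spec K`

`k` a finite field with `q` elements, `K ⊇ k` a field, `E / k` algebraic.  `τ : J ⟶ J` is induced by the Frobenius of `E`.
-/

set_option autoImplicit false
universe u

open CategoryTheory CategoryTheory.Limits AlgebraicGeometry Opposite TensorProduct
open Groth.Agent.CurvesA Groth.Agent.CurvesA.EtFieldObj K826.AffHom K773.LangAlg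

noncomputable section

namespace K773.ScdSh

section defs

variable (k K E : Type u) [Field k] [Fintype k] [Field K] [Algebra k K] [Field E] [Algebra k E]

/-- The base. -/
abbrev X : Scheme.{u} := Spec (CommRingCat.of K)

/-- The covering. -/
def pi : Spec (CommRingCat.of (K ⊗[k] E)) ⟶ Spec (CommRingCat.of K) :=
  Spec.map (CommRingCat.ofHom (algebraMap K (K ⊗[k] E)))

/-- The sheaf `π_* G_m`. -/
def J : EtCoh.Ab (X K) := (EtCoh.push (pi k K E)).obj (EtCoh.Gm _)

/-- The pull back of the covering. -/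
abbrev P (U : (X K).Etale) : Scheme.{u} := pullback U.hom (pi k K E)

/-- First projection. -/
def pf (U : (X K).Etale) : P k K E U ⟶ U.left := pullback.fst U.hom (pi k K E)

/-- Second projection. -/
def ps (U : (X K).Etale) : P k K E U ⟶ Spec (CommRingCat.of (K ⊗[k] E)) := pullback.snd U.hom (pi k K E)

/-- Sections of `J` as units. -/
def un {U : (X K).Etale} (x : (J k K E).obj.obj (op U)) : Γ(P k K E U, ⊤)ˣ :=
  (show ULift (Additive Γ(P k K E U, ⊤)ˣ) from x).down.toMul

/-- Units as sections of `J`. -/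
def nu {U : (X K).Etale} (x : Γ(P k K E U, ⊤)ˣ) : (J k K E).obj.obj (op U) :=
  (ULift.up (Additive.ofMul x) : ULift (Additive Γ(P k K E U, ⊤)ˣ))

@[simp] theorem un_nu {U : (X K).Etale} (x : Γ(P k K E U, ⊤)ˣ) : un k K E (nu k K E x) = x := rfl

theorem un_injective {U : (X K).Etale} : Function.Injective (un k K E (U := U)) := by
  intro x y h
  exact ULift.ext _ _ (congrArg Additive.ofMul h)

theorem un_add {U : (X K).Etale} (x y : (J k K E).obj.obj (op U)) : un k K E (x + y) = un k K E x * un k K E y := rfl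

theorem un_zero {U : (X K).Etale} : un k K E (0 : (J k K E).obj.obj (op U)) = 1 := rfl

theorem un_sub {U : (X K).Etale} (x y : (J k K E).obj.obj (op U)) : un k K E (x - y) = un k K E x / un k K E y := rfl

theorem un_nsmul {U : (X K).Etale} (n : ℕ) (x : (J k K E).obj.obj (op U)) : un k K E (n • x) = un k K E x ^ n := rfl

/-- Transition maps. -/
def tr {U V : (X K).Etale} (f : V ⟶ U) : P k K E V ⟶ P k K E U := ((EtCoh.bc (pi k K E)).map f).left

theorem tr_fst {U V : (X K).Etale} (f : V ⟶ U) :
    tr k K E f ≫ pf k K E U = pf k K E V ≫ f.left := by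
  dsimp [tr, EtCoh.bc, pf]
  exact pullback.lift_fst _ _ _

theorem tr_snd {U V : (X K).Etale} (f : V ⟶ U) :
    tr k K E f ≫ ps k K E U = ps k K E V := by
  dsimp [tr, EtCoh.bc, ps]
  exact pullback.lift_snd _ _ _

theorem P_ext {U : (X K).Etale} {T : Scheme.{u}} {a b : T ⟶ P k K E U} (h1 : a ≫ pf k K E U = b ≫ pf k K E U)
    (h2 : a ≫ ps k K E U = b ≫ ps k K E U) : a = b := pullback.hom_ext h1 h2

theorem un_map {U V : (X K).Etale} (f : V ⟶ U) (x : (J k K E).obj.obj (op U)) :
    (un k K E ((J k K E).obj.map f.op x) : Γ(P k K E V, ⊤)) = (tr k K E f).appTop.hom (un k K E x) := rfl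

/-- The Frobenius of `E` as a `K`-algebra endomorphism of `K ⊗ E`. -/
def tB : K ⊗[k] E →ₐ[K] K ⊗[k] E :=
  Algebra.TensorProduct.map (AlgHom.id K K) (FiniteField.frobeniusAlgHom k E)

theorem spec_tB_pi : Spec.map (CommRingCat.ofHom (tB k K E).toRingHom) ≫ pi k K E = pi k K E := by
  rw [pi, ← Spec.map_comp, ← CommRingCat.ofHom_comp]
  congr 2
  exact (tB k K E).comp_algebraMap

/-- The automorphism of the pull back. -/
def tP (U : (X K).Etale) : P k K E U ⟶ P k K E U :=
  pullback.lift (pullback.fst U.hom (pi k K E))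
    (pullback.snd U.hom (pi k K E) ≫ Spec.map (CommRingCat.ofHom (tB k K E).toRingHom))
    (by rw [Category.assoc, spec_tB_pi, pullback.condition])

theorem tP_fst (U : (X K).Etale) : tP k K E U ≫ pf k K E U = pf k K E U :=
  pullback.lift_fst _ _ _

theorem tP_snd (U : (X K).Etale) : tP k K E U ≫ ps k K E U =
    ps k K E U ≫ Spec.map (CommRingCat.ofHom (tB k K E).toRingHom) :=
  pullback.lift_snd _ _ _

theorem tP_tr {U V : (X K).Etale} (f : V ⟶ U) : tr k K E f ≫ tP k K E U = tP k K E V ≫ tr k K E f := by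
  apply P_ext
  · rw [Category.assoc, Category.assoc, tP_fst, tr_fst, ← Category.assoc, tP_fst]
  · rw [Category.assoc, Category.assoc, tP_snd, tr_snd, ← Category.assoc, tr_snd, tP_snd]

/-- The endomorphism of `J` given by the Frobenius of `E`. -/
def tau : J k K E ⟶ J k K E where
  hom :=
    { app := fun U => EtCoh.ΓUnits.map (tP k K E U.unop).op
      naturality := fun U V f => by
        have h := congrArg (fun m => EtCoh.ΓUnits.map (Quiver.Hom.op m)) (tP_tr k K E f.unop)
        rw [op_comp, op_comp, Functor.map_comp, Functor.map_comp] at h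
        exact h.symm }

theorem un_tau {U : (X K).Etale} (x : (J k K E).obj.obj (op U)) :
    (un k K E ((tau k K E).hom.app (op U) x) : Γ(P k K E U, ⊤)) = (tP k K E U).appTop.hom (un k K E x) := rfl

/-- The Lang map. -/
def theta : J k K E ⟶ J k K E := Fintype.card k • 𝟙 _ - tau k K E

theorem nsmul_id_app {F : EtCoh.Ab (X K)} (n : ℕ) (U : (X K).Etale) (x : F.obj.obj (op U)) :
    (n • 𝟙 F : F ⟶ F).hom.app (op U) x = n • x := by
  induction n with
  | zero => rw [zero_smul, zero_smul]; rfl
  | succ n ih =>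
    rw [succ_nsmul, succ_nsmul, ← ih]
    rfl

theorem theta_app {U : (X K).Etale} (x : (J k K E).obj.obj (op U)) :
    (theta k K E).hom.app (op U) x = Fintype.card k • x - (tau k K E).hom.app (op U) x := by
  rw [← nsmul_id_app]
  rfl

end defs

section coord

variable (k K E : Type u) [Field k] [Fintype k] [Field K] [Algebra k K] [Field E] [Algebra k E]
variable (L : Type u) [Field L] [Algebra K L] [FiniteDimensional K L] [Algebra.IsSeparable K L]
  [Algebra k L] [IsScalarTower k K L]

/-- First projection. -/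
def pfL : P k K E (etObj K L) ⟶ Spec (CommRingCat.of L) := pf k K E (etObj K L)

theorem pf_eq : pf k K E (etObj K L) = pfL k K E L := rfl

theorem cond : pfL k K E L ≫ Spec.map (CommRingCat.ofHom (algebraMap K L)) =
    ps k K E (etObj K L) ≫ Spec.map (CommRingCat.ofHom (algebraMap K (K ⊗[k] E))) := pullback.condition

/-- Functions on the pull back: the map from `L ⊗ E`. -/
def kap : L ⊗[k] E →+* Γ(P k K E (etObj K L), ⊤) :=
  CharSec.prod2 (gl (E := L) (pfL k K E L))
    ((gl (E := K ⊗[k] E) (ps k K E (etObj K L))).comp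
      (Algebra.TensorProduct.includeRight : E →ₐ[k] K ⊗[k] E).toRingHom) (by
    have h1 : (gl (E := L) (pfL k K E L)).comp (algebraMap K L) =
        (gl (E := K ⊗[k] E) (ps k K E (etObj K L))).comp (algebraMap K (K ⊗[k] E)) := by
      rw [← gl_map, ← gl_map, cond]
    refine RingHom.ext fun a => ?_
    have h2 := RingHom.congr_fun h1 (algebraMap k K a)
    have h3 : algebraMap K L (algebraMap k K a) = algebraMap k L a := (IsScalarTower.algebraMap_apply k K L a).symm
    have h4 : algebraMap K (K ⊗[k] E) (algebraMap k K a) =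
        (Algebra.TensorProduct.includeRight : E →ₐ[k] K ⊗[k] E) (algebraMap k E a) := by
      rw [AlgHom.commutes]
      exact (IsScalarTower.algebraMap_apply k K (K ⊗[k] E) a).symm
    change gl (E := L) (pfL k K E L) (algebraMap k L a) = _
    rw [← h3]
    refine h2.trans ?_
    change gl (E := K ⊗[k] E) (ps k K E (etObj K L)) _ = _
    rw [h4]
    rfl)

theorem kap_tmul (a : L) (e : E) : kap k K E L (a ⊗ₜ[k] e) =
    gl (E := L) (pfL k K E L) a *
      gl (E := K ⊗[k] E) (ps k K E (etObj K L)) (1 ⊗ₜ[k] e) := rfl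

theorem kap_bijective : Function.Bijective (kap k K E L) := by
  let i := pullbackSpecIso K L (K ⊗[k] E)
  let G : Γ(P k K E (etObj K L), ⊤) →+* L ⊗[K] (K ⊗[k] E) :=
    (Scheme.ΓSpecIso (CommRingCat.of (L ⊗[K] (K ⊗[k] E)))).hom.hom.comp i.inv.appTop.hom
  have hG : Function.Bijective G := by
    have hii : IsIso i.inv.appTop := inferInstanceAs (IsIso (Scheme.Γ.map i.inv.op))
    have h1 : Function.Bijective i.inv.appTop.hom := ConcreteCategory.bijective_of_isIso i.inv.appTop
    have h2 : Function.Bijective (Scheme.ΓSpecIso (CommRingCat.of (L ⊗[K] (K ⊗[k] E)))).hom.hom :=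
      ConcreteCategory.bijective_of_isIso (Scheme.ΓSpecIso (CommRingCat.of (L ⊗[K] (K ⊗[k] E)))).hom
    exact h2.comp h1
  have hgl : ∀ {R : Type u} [CommRing R] (φ : R →+* L ⊗[K] (K ⊗[k] E)) (r : R),
      (Scheme.ΓSpecIso (CommRingCat.of (L ⊗[K] (K ⊗[k] E)))).hom.hom
        (gl (E := R) (Spec.map (CommRingCat.ofHom φ)) r) = φ r := by
    intro R _ φ r
    have h := Scheme.ΓSpecIso_naturality (CommRingCat.ofHom φ)
    have h2 := congrArg (fun m => m.hom ((Scheme.ΓSpecIso (CommRingCat.of R)).inv.hom r)) h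
    have h3 : (Scheme.ΓSpecIso (CommRingCat.of R)).hom.hom ((Scheme.ΓSpecIso (CommRingCat.of R)).inv.hom r) = r :=
      congrArg (fun m => m.hom r) (Scheme.ΓSpecIso (CommRingCat.of R)).inv_hom_id
    refine h2.trans ?_
    exact congrArg φ h3
  have hc : ∀ z : L ⊗[k] E, Algebra.TensorProduct.cancelBaseChange k K L L E (G (kap k K E L z)) = z := by
    intro z
    induction z with
    | zero => simp only [map_zero]
    | add x y hx hy => simp only [map_add, hx, hy]
    | tmul a e =>
      have h1 : G (gl (E := L) (pfL k K E L) a) = a ⊗ₜ[K] (1 : K ⊗[k] E) := by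
        have h2 := RingHom.congr_fun (gl_comp (E := L) i.inv (pfL k K E L)) a
        have h3 : i.inv ≫ pfL k K E L =
            Spec.map (CommRingCat.ofHom Algebra.TensorProduct.includeLeftRingHom) := pullbackSpecIso_inv_fst K L (K ⊗[k] E)
        have h4 := hgl (R := L) (Algebra.TensorProduct.includeLeftRingHom : L →+* L ⊗[K] (K ⊗[k] E)) a
        refine (congrArg _ h2.symm).trans ?_
        rw [h3]
        exact h4
      have h1' : G (gl (E := K ⊗[k] E) (ps k K E (etObj K L)) (1 ⊗ₜ[k] e)) =
          (1 : L) ⊗ₜ[K] ((1 : K) ⊗ₜ[k] e) := by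
        have h2 := RingHom.congr_fun (gl_comp (E := K ⊗[k] E) i.inv (ps k K E (etObj K L))) (1 ⊗ₜ[k] e)
        have h3 : i.inv ≫ ps k K E (etObj K L) =
            Spec.map (CommRingCat.ofHom (Algebra.TensorProduct.includeRight : (K ⊗[k] E) →ₐ[K] L ⊗[K] (K ⊗[k] E)).toRingHom) :=
          pullbackSpecIso_inv_snd K L (K ⊗[k] E)
        have h4 := hgl (R := K ⊗[k] E) (Algebra.TensorProduct.includeRight : (K ⊗[k] E) →ₐ[K] L ⊗[K] (K ⊗[k] E)).toRingHom
          (1 ⊗ₜ[k] e)
        refine (congrArg _ h2.symm).trans ?_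
        rw [h3]
        exact h4
      rw [kap_tmul, map_mul, h1, h1', Algebra.TensorProduct.tmul_mul_tmul, mul_one, one_mul,
        Algebra.TensorProduct.cancelBaseChange_tmul, one_smul]
  constructor
  · intro x y h
    rw [← hc x, ← hc y, h]
  · intro w
    refine ⟨Algebra.TensorProduct.cancelBaseChange k K L L E (G w), ?_⟩
    apply hG.1
    apply (Algebra.TensorProduct.cancelBaseChange k K L L E).injective
    rw [hc]

variable {L}

theorem tr_kap {L' : Type u} [Field L'] [Algebra K L'] [FiniteDimensional K L'] [Algebra.IsSeparable K L']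
    [Algebra k L'] [IsScalarTower k K L'] (φ : L →ₐ[K] L') (z : L ⊗[k] E) :
    (tr k K E (etMap φ)).appTop.hom (kap k K E L z) = kap k K E L' (bcL k E (φ.restrictScalars k) z) := by
  induction z with
  | zero => simp only [map_zero]
  | add x y hx hy => simp only [map_add, hx, hy]
  | tmul a e =>
    rw [kap_tmul, bcL_tmul, kap_tmul, map_mul]
    congr 1
    · have h1 := RingHom.congr_fun (gl_comp (E := L) (tr k K E (etMap φ)) (pfL k K E L)) a
      refine h1.symm.trans ?_
      have h2 : tr k K E (etMap φ) ≫ pfL k K E L =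
          pfL k K E L' ≫ Spec.map (CommRingCat.ofHom φ.toRingHom) := tr_fst k K E (etMap φ)
      rw [h2]
      exact RingHom.congr_fun (gl_map (E := L') (F := L) (pfL k K E L') φ.toRingHom) a
    · have h1 := RingHom.congr_fun (gl_comp (E := K ⊗[k] E) (tr k K E (etMap φ))
        (ps k K E (etObj K L))) (1 ⊗ₜ[k] e)
      refine h1.symm.trans ?_
      rw [tr_snd]

/-- The Frobenius of `E` on `L ⊗ E`. -/
def tE (R : Type u) [CommRing R] [Algebra k R] : R ⊗[k] E →ₐ[k] R ⊗[k] E :=
  Algebra.TensorProduct.map (AlgHom.id k R) (FiniteField.frobeniusAlgHom k E)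

theorem tP_kap (z : L ⊗[k] E) :
    (tP k K E (etObj K L)).appTop.hom (kap k K E L z) = kap k K E L (tE k E L z) := by
  induction z with
  | zero => simp only [map_zero]
  | add x y hx hy => simp only [map_add, hx, hy]
  | tmul a e =>
    have h0 : tE k E L (a ⊗ₜ[k] e) = a ⊗ₜ[k] (e ^ Fintype.card k) := rfl
    rw [h0, kap_tmul, kap_tmul, map_mul]
    congr 1
    · have h1 := RingHom.congr_fun (gl_comp (E := L) (tP k K E (etObj K L)) (pfL k K E L)) a
      refine h1.symm.trans ?_
      have h2 : tP k K E (etObj K L) ≫ pfL k K E L = pfL k K E L := tP_fst k K E (etObj K L)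
      rw [h2]
    · have h1 := RingHom.congr_fun (gl_comp (E := K ⊗[k] E) (tP k K E (etObj K L))
        (ps k K E (etObj K L))) (1 ⊗ₜ[k] e)
      refine h1.symm.trans ?_
      rw [tP_snd]
      exact RingHom.congr_fun (gl_map (E := K ⊗[k] E) (F := K ⊗[k] E) (ps k K E (etObj K L))
        (tB k K E).toRingHom) (1 ⊗ₜ[k] e)

/-- `x ^ q` is the composition of the two partial Frobenius maps. -/
theorem pow_card (R : Type u) [CommRing R] [Algebra k R] (z : R ⊗[k] E) :
    z ^ Fintype.card k = tE k E R (F k E R z) := by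
  induction z with
  | zero => rw [map_zero, map_zero, zero_pow Fintype.card_ne_zero]
  | add x y hx hy =>
    rw [map_add, map_add, ← hx, ← hy]
    exact (FiniteField.frobeniusAlgHom k (R ⊗[k] E)).map_add x y
  | tmul a e =>
    rw [F_tmul, Algebra.TensorProduct.tmul_pow]
    rfl

end coord

end K773.ScdSh
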