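import Groth.Agent.Lefpen.H717.ConstRed
import Groth.Agent.TateLoc.K809.Les
import Mathlib.Algebra.Module.CharacterModule
import Mathlib.Algebra.Field.ZMod
import Groth.Prelude.Def_EtBase

/-!
# Torsion in the cohomology of the constant sheaf `ℤ`

`eq_zero_of`: if `a ∈ A` is an element of prime order `l` and `H^q(X, A)` has no element of order `l`, then `H^{q+1}(X, ℤ)` has
no element of order `l`.
-/

set_option autoImplicit false
universe u

open CategoryTheory CategoryTheory.Limits AlgebraicGeometry Opposite Abelian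
open Groth.Agent.Lefpen.H717.ConstRed

noncomputable section

namespace K773.ScdTors

/-- Elements of order `l` of `ℚ/ℤ`. -/
theorem exists_nsmul_eq (l : ℕ) [hl : Fact l.Prime] (t : AddCircle (1 : ℚ)) (ht : l • t = 0) (h0 : t ≠ 0) :
    ∃ m : ℕ, m • t = (((1 : ℚ) / l : ℚ) : AddCircle (1 : ℚ)) := by
  induction t using QuotientAddGroup.induction_on with
  | H r =>
    have hl0 : (l : ℚ) ≠ 0 := by exact_mod_cast hl.out.ne_zero
    have h1 : ((l • r : ℚ) : AddCircle (1 : ℚ)) = 0 := ht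
    rw [AddCircle.coe_eq_zero_iff] at h1
    obtain ⟨j, hj⟩ := h1
    have hr : r = j / l := by
      rw [zsmul_eq_mul, mul_one, nsmul_eq_mul] at hj
      field_simp
      rw [mul_comm]
      exact hj.symm
    have hjl : (j : ZMod l) ≠ 0 := by
      intro h
      rw [ZMod.intCast_zmod_eq_zero_iff_dvd] at h
      obtain ⟨i, hi⟩ := h
      apply h0
      change ((r : ℚ) : AddCircle (1 : ℚ)) = 0
      rw [AddCircle.coe_eq_zero_iff]
      refine ⟨i, ?_⟩
      rw [hr, hi, zsmul_eq_mul, mul_one]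
      push_cast
      field_simp
    generalize hz : (j : ZMod l)⁻¹ = z at *
    refine ⟨z.val, ?_⟩
    have h2 : (((z.val : ℤ) * j - 1 : ℤ) : ZMod l) = 0 := by
      push_cast
      have h3 : z * (j : ZMod l) = 1 := by
        have hu : IsUnit (j : ZMod l) := (isUnit_iff_ne_zero (a := (j : ZMod l))).mpr hjl
        rw [mul_comm, ← hz]
        exact ZMod.mul_inv_of_unit _ hu
      rw [ZMod.natCast_zmod_val, h3, sub_self]
    rw [ZMod.intCast_zmod_eq_zero_iff_dvd] at h2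
    obtain ⟨i, hi⟩ := h2
    change ((z.val • r : ℚ) : AddCircle (1 : ℚ)) = _
    rw [← sub_eq_zero, ← AddCircle.coe_sub, AddCircle.coe_eq_zero_iff]
    refine ⟨i, ?_⟩
    have hi' : ((z.val : ℚ) * j - 1) = l * i := by exact_mod_cast hi
    rw [zsmul_eq_mul, mul_one, hr, nsmul_eq_mul]
    field_simp
    rw [hi', mul_comm]

/-- `ℚ ⟶ ℚ/ℤ`, one universe up. -/
def gQ : AddCommGrpCat.of (ULift.{u + 1} ℚ) ⟶ AddCommGrpCat.of (ULift.{u + 1} (AddCircle (1 : ℚ))) :=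
  AddCommGrpCat.ofHom
    { toFun := fun x => ULift.up ((x.down : ℚ) : AddCircle (1 : ℚ))
      map_zero' := rfl
      map_add' := fun _ _ => rfl }

/-- `ℤ ⟶ ℚ`, one universe up, `n ↦ n / l`. -/
def fQ (l : ℕ) : AddCommGrpCat.of (ULift.{u + 1} ℤ) ⟶ AddCommGrpCat.of (ULift.{u + 1} ℚ) :=
  AddCommGrpCat.ofHom
    { toFun := fun x => ULift.up ((x.down : ℚ) / l)
      map_zero' := by
        apply ULift.down_injective
        change ((0 : ℤ) : ℚ) / l = 0
        simp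
      map_add' := fun x y => by
        apply ULift.down_injective
        change ((x.down + y.down : ℤ) : ℚ) / l = x.down / l + y.down / l
        push_cast
        rw [add_div] }

theorem fQ_gQ : fQ.{u} 1 ≫ gQ.{u} = 0 := by
  ext x
  change ((((x.down : ℤ) : ℚ) / (1 : ℕ) : ℚ) : AddCircle (1 : ℚ)) = 0
  rw [AddCircle.coe_eq_zero_iff]
  exact ⟨x.down, by simp⟩

/-- `0 ⟶ ℤ ⟶ ℚ ⟶ ℚ/ℤ ⟶ 0` -/
def sQ : ShortComplex AddCommGrpCat.{u + 1} := ShortComplex.mk (fQ.{u} 1) gQ.{u} fQ_gQ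

theorem sQ_shortExact : (sQ.{u}).ShortExact where
  exact := by
    rw [ShortComplex.ab_exact_iff]
    intro x hx
    have h1 : ((x.down : ℚ) : AddCircle (1 : ℚ)) = 0 := congrArg ULift.down hx
    rw [AddCircle.coe_eq_zero_iff] at h1
    obtain ⟨n, hn⟩ := h1
    refine ⟨ULift.up n, ?_⟩
    apply ULift.down_injective
    change ((n : ℤ) : ℚ) / (1 : ℕ) = x.down
    rw [← hn]
    simp
  mono_f := by
    rw [AddCommGrpCat.mono_iff_injective]
    intro x y h
    have h1 : ((x.down : ℤ) : ℚ) / (1 : ℕ) = ((y.down : ℤ) : ℚ) / (1 : ℕ) := congrArg ULift.down h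
    apply ULift.down_injective
    simpa using h1
  epi_g := by
    rw [AddCommGrpCat.epi_iff_surjective]
    intro y
    obtain ⟨r, hr⟩ := QuotientAddGroup.mk_surjective y.down
    exact ⟨ULift.up r, ULift.down_injective hr⟩

/-- Maps from `ℤ/l`. -/
def lf {A : AddCommGrpCat.{u + 1}} (l : ℕ) (a : A) (ha : l • a = 0) : AddCommGrpCat.of (ULift.{u + 1} (ZMod l)) ⟶ A :=
  AddCommGrpCat.ofHom ((ZMod.lift l ⟨zmultiplesHom A a, by
    rw [zmultiplesHom_apply, natCast_zsmul]; exact ha⟩).comp AddEquiv.ulift.toAddMonoidHom)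

theorem toZMod_lf {A : AddCommGrpCat.{u + 1}} (l : ℕ) (a : A) (ha : l • a = 0)
    (x : AddCommGrpCat.of (ULift.{u + 1} ℤ)) : (toZMod.{u} l ≫ lf l a ha) x = x.down • a :=
  by
  change ZMod.lift l ⟨zmultiplesHom A a, by rw [zmultiplesHom_apply, natCast_zsmul]; exact ha⟩ (((x : ULift.{u + 1} ℤ).down : ℤ) : ZMod l) = _
  rw [ZMod.lift_coe]
  rfl

theorem lf_comp {A B : AddCommGrpCat.{u + 1}} (l : ℕ) (hl : 0 < l) (a : A) (ha : l • a = 0) (c : A ⟶ B) (b : B)
    (hb : l • b = 0) (h : c a = b) : lf l a ha ≫ c = lf l b hb := by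
  have hepi : Epi (toZMod.{u} l) := (zcx_shortExact.{u} l hl).epi_g
  rw [← cancel_epi (toZMod.{u} l)]
  ext x
  refine Eq.trans ?_ (toZMod_lf l b hb x).symm
  change c ((toZMod.{u} l ≫ lf l a ha) x) = _
  rw [toZMod_lf, map_zsmul, h]

/-- The class of `1 / l`. -/
def bQ (l : ℕ) : AddCommGrpCat.of (ULift.{u + 1} (AddCircle (1 : ℚ))) := ULift.up (((1 : ℚ) / l : ℚ) : AddCircle (1 : ℚ))

theorem nsmul_bQ (l : ℕ) (hl : 0 < l) : l • bQ.{u} l = 0 := by
  apply ULift.down_injective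
  change ((l • ((1 : ℚ) / l) : ℚ) : AddCircle (1 : ℚ)) = 0
  rw [AddCircle.coe_eq_zero_iff]
  refine ⟨1, ?_⟩
  have : (l : ℚ) ≠ 0 := by exact_mod_cast hl.ne'
  rw [nsmul_eq_mul]
  field_simp
  simp

/-- The comparison of the two sequences. -/
def cmp (l : ℕ) (hl : 0 < l) : zcx.{u} l ⟶ sQ.{u} where
  τ₁ := 𝟙 _
  τ₂ := fQ.{u} l
  τ₃ := lf l (bQ.{u} l) (nsmul_bQ l hl)
  comm₁₂ := by
    ext x
    apply ULift.down_injective
    have hl0 : (l : ℚ) ≠ 0 := by exact_mod_cast hl.ne'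
    change (((x : ULift.{u + 1} ℤ).down : ℚ)) / (1 : ℕ) =
      ((((l • 𝟙 (AddCommGrpCat.of (ULift.{u + 1} ℤ)) : AddCommGrpCat.of (ULift.{u + 1} ℤ) ⟶
        AddCommGrpCat.of (ULift.{u + 1} ℤ)).hom x).down : ℤ) : ℚ) / l
    rw [AddCommGrpCat.hom_nsmul]
    change _ = ((l • (x : ULift.{u + 1} ℤ).down : ℤ) : ℚ) / l
    rw [nsmul_eq_mul]
    push_cast
    field_simp
  comm₂₃ := by
    ext x
    refine Eq.trans ?_ (toZMod_lf l (bQ.{u} l) (nsmul_bQ l hl) x).symm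
    apply ULift.down_injective
    change ((((x : ULift.{u + 1} ℤ).down : ℚ) / l : ℚ) : AddCircle (1 : ℚ)) =
      (((x : ULift.{u + 1} ℤ).down • ((1 : ℚ) / l) : ℚ) : AddCircle (1 : ℚ))
    rw [zsmul_eq_mul, mul_one_div]

variable (Y : Scheme.{u})

/-- The constant sheaf functor. -/
abbrev cS : AddCommGrpCat.{u + 1} ⥤ EtCoh.Ab Y := constantSheaf Y.smallEtaleTopology AddCommGrpCat.{u + 1}

variable {Y}

theorem abs {C : Type*} [Category C] [Abelian C] [HasExt C] (O : C) {S T : ShortComplex C} (hS : S.ShortExact)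
    (hT : T.ShortExact) (Φ : S ⟶ T) (f : T.X₁ ⟶ S.X₁) (hf : Φ.τ₁ ≫ f = 𝟙 _) {N : C} (u : S.X₃ ⟶ N) (v : N ⟶ T.X₃)
    (huv : Φ.τ₃ = u ≫ v) (q : ℕ) (x : Ext O S.X₃ q) (hx : x.comp (Ext.mk₀ u) (add_zero q) = 0) :
    x.comp hS.extClass rfl = 0 := by
  have h5 : x.comp (Ext.mk₀ Φ.τ₃) (add_zero q) = 0 := by
    rw [huv, ← Ext.mk₀_comp_mk₀, ← Ext.comp_assoc_of_third_deg_zero, hx, Ext.zero_comp]
  have h4 := ShortComplex.ShortExact.extClass_naturality hS hT Φ
  have h6 : (x.comp hS.extClass rfl).comp (Ext.mk₀ Φ.τ₁) (add_zero (q + 1)) = 0 := by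
    rw [Ext.comp_assoc_of_third_deg_zero, h4, ← Ext.comp_assoc_of_second_deg_zero, h5, Ext.zero_comp]
  have h7 : ((x.comp hS.extClass rfl).comp (Ext.mk₀ Φ.τ₁) (add_zero (q + 1))).comp (Ext.mk₀ f) (add_zero (q + 1)) = 0 := by
    rw [h6, Ext.zero_comp]
  rw [Ext.comp_assoc_of_third_deg_zero, Ext.mk₀_comp_mk₀, hf, Ext.comp_mk₀_id] at h7
  exact h7

theorem eq_zero_of (l : ℕ) [hl : Fact l.Prime] (A : AddCommGrpCat.{u + 1}) (a : A) (ha : l • a = 0) (ha0 : a ≠ 0) (q : ℕ)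
    (hA : ∀ y : EtCoh.H Y ((cS Y).obj A) q, l • y = 0 → y = 0) (w : EtCoh.H Y (EtCoh.const Y ℤ) (q + 1))
    (hw : l • w = 0) : w = 0 := by
  have := preservesFiniteLimits_constantSheaf Y
  have := preservesFiniteColimits_constantSheaf Y
  have := additive_constantSheaf Y
  have hl0 : 0 < l := hl.out.pos
  let O := (cS Y).obj (AddCommGrpCat.of (ULift.{u + 1, 0} ℤ))
  have h1 := (zcx_shortExact.{u} l hl0).map_of_exact (cS Y)
  have h2 := (sQ_shortExact.{u}).map_of_exact (cS Y)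
  let w' : Ext O ((cS Y).obj (AddCommGrpCat.of (ULift.{u + 1} ℤ))) (q + 1) := w
  have hw' : K809.Les.mp O ((cS Y).map (l • 𝟙 (AddCommGrpCat.of (ULift.{u + 1} ℤ)))) (q + 1) w' = 0 := by
    rw [Functor.map_nsmul, (cS Y).map_id, K809.Les.mp_nsmul_id]
    exact hw
  obtain ⟨x, hx⟩ := (K809.Les.exact₁ O h1 q w').1 hw'
  -- the character
  obtain ⟨c, hc⟩ := CharacterModule.exists_character_apply_ne_zero_of_ne_zero ha0
  have hlc : l • (c a : AddCircle (1 : ℚ)) = 0 := by rw [← map_nsmul, ha, map_zero]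
  obtain ⟨m, hm⟩ := exists_nsmul_eq l (c a) hlc hc
  let c' : A ⟶ AddCommGrpCat.of (ULift.{u + 1} (AddCircle (1 : ℚ))) :=
    AddCommGrpCat.ofHom (AddEquiv.ulift.symm.toAddMonoidHom.comp (c : A →+ AddCircle (1 : ℚ)))
  have hma : l • (m • a) = 0 := by rw [smul_comm, ha, smul_zero]
  have hfac : lf l (m • a) hma ≫ c' = lf l (bQ.{u} l) (nsmul_bQ l hl0) := by
    refine lf_comp l hl0 _ _ _ _ _ ?_
    apply ULift.down_injective
    change c (m • a) = _
    rw [map_nsmul]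
    exact hm
  let x' : Ext O ((cS Y).obj (AddCommGrpCat.of (ULift.{u + 1, 0} (ZMod l)))) q := x
  have h8 : l • x' = 0 := by
    refine K809.Les.nsmul_eq_zero O ?_ q x'
    rw [← (cS Y).map_id, ← Functor.map_nsmul]
    have h9 : l • 𝟙 (AddCommGrpCat.of (ULift.{u + 1} (ZMod l))) = 0 := by
      ext z
      rw [AddCommGrpCat.hom_nsmul]
      change l • (z : ULift.{u + 1} (ZMod l)).down = 0
      rw [nsmul_eq_mul, ZMod.natCast_self, zero_mul]
    rw [h9, Functor.map_zero]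
  have h7 : K809.Les.mp O ((cS Y).map (lf l (m • a) hma)) q x' = 0 := by
    apply hA
    refine Eq.trans (map_nsmul (K809.Les.mp O ((cS Y).map (lf l (m • a) hma)) q) l x').symm ?_
    rw [h8, map_zero]
  have h10 := abs O h1 h2 ((cS Y).mapShortComplex.map (cmp.{u} l hl0)) (𝟙 ((cS Y).obj (AddCommGrpCat.of (ULift.{u + 1} ℤ))))
    ((Category.comp_id _).trans ((cS Y).map_id _)) ((cS Y).map (lf l (m • a) hma)) ((cS Y).map c')
    (((congrArg (cS Y).map hfac).symm.trans ((cS Y).map_comp _ _))) q x h7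
  exact hx.symm.trans h10

end K773.ScdTors
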