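import Groth.Agent.S1964
import Mathlib.RingTheory.DiscreteValuationRing.Basic
import Mathlib.RingTheory.TensorProduct.Free
import Mathlib.RingTheory.Localization.BaseChange
import Mathlib.RingTheory.Henselian
import Mathlib.RingTheory.IntegralClosure.IsIntegralClosure.Basic
import Mathlib.FieldTheory.IsAlgClosed.Basic

/-!
# `R ⊗ E` for a discrete valuation ring `R` with coefficient field `k`

`R` a discrete valuation ring, `k ⊆ R` a field which maps onto the residue field, `E / k` algebraic.  Then `B = R ⊗ E` is
a discrete valuation ring, henselian if `R` is, with residue field `E`.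
-/

set_option autoImplicit false
universe u

open TensorProduct IsLocalRing

noncomputable section

namespace K773.ScdUr

variable (R k E : Type u) [CommRing R] [IsDomain R] [IsDiscreteValuationRing R] [Field k] [Algebra k R]
  [Field E] [Algebra k E]

section rho

variable (hres : Function.Bijective (algebraMap k (ResidueField R)))

/-- The coefficient field. -/
def sg : ResidueField R →ₐ[k] k :=
  (AlgEquiv.ofBijective (Algebra.ofId k (ResidueField R)) hres).symm.toAlgHom

/-- Reduction. -/
def rho : R ⊗[k] E →ₐ[k] E :=
  Algebra.TensorProduct.lift ((Algebra.ofId k E).comp ((sg R k hres).comp (IsScalarTower.toAlgHom k R (ResidueField R))))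
    (AlgHom.id k E) (fun _ _ => Commute.all _ _)

theorem rho_tmul (r : R) (e : E) : rho R k E hres (r ⊗ₜ e) = algebraMap k E (sg R k hres (residue R r)) * e := rfl

theorem rho_surjective : Function.Surjective (rho R k E hres) := fun e =>
  ⟨1 ⊗ₜ e, by rw [rho_tmul, map_one, map_one, map_one, one_mul]⟩

theorem sg_injective : Function.Injective (sg R k hres) :=
  (AlgEquiv.ofBijective (Algebra.ofId k (ResidueField R)) hres).symm.injective

/-- Coordinates. -/
abbrev bs : Module.Basis (Module.Free.ChooseBasisIndex k E) R (R ⊗[k] E) :=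
  Algebra.TensorProduct.basis R (Module.Free.chooseBasis k E)

theorem rho_eq (x : R ⊗[k] E) : rho R k E hres x =
    ((bs R k E).repr x).sum fun i r => sg R k hres (residue R r) • Module.Free.chooseBasis k E i := by
  conv_lhs => rw [← (bs R k E).linearCombination_repr x]
  rw [Finsupp.linearCombination_apply, Finsupp.sum, map_sum, Finsupp.sum]
  refine Finset.sum_congr rfl fun i _ => ?_
  rw [Algebra.TensorProduct.basis_apply, smul_tmul', smul_eq_mul, mul_one, rho_tmul, Algebra.smul_def]

variable (t : R) (ht : Irreducible t)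

include ht in
theorem mem_ker_iff (x : R ⊗[k] E) : rho R k E hres x = 0 ↔ algebraMap R (R ⊗[k] E) t ∣ x := by
  constructor
  · intro h
    rw [rho_eq] at h
    have h1 : ∀ i, residue R ((bs R k E).repr x i) = 0 := by
      intro i
      by_contra hi
      have hli := (Module.Free.chooseBasis k E).linearIndependent
      rw [linearIndependent_iff'] at hli
      have h2 := hli ((bs R k E).repr x).support (fun i => sg R k hres (residue R ((bs R k E).repr x i))) h i (by
        rw [Finsupp.mem_support_iff]
        intro h0
        rw [h0, map_zero] at hi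
        exact hi rfl)
      apply hi
      apply sg_injective R k hres
      rw [h2, map_zero]
    have h2 : ∀ i, ∃ s, (bs R k E).repr x i = t * s := by
      intro i
      have h3 := h1 i
      rw [residue_eq_zero_iff, ht.maximalIdeal_eq, Ideal.mem_span_singleton] at h3
      exact h3
    choose s hs using h2
    refine ⟨∑ i ∈ ((bs R k E).repr x).support, s i • bs R k E i, ?_⟩
    rw [Finset.mul_sum]
    conv_lhs => rw [← (bs R k E).linearCombination_repr x]
    rw [Finsupp.linearCombination_apply, Finsupp.sum]
    refine Finset.sum_congr rfl fun i _ => ?_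
    rw [hs, mul_smul, Algebra.smul_def]
  · rintro ⟨y, rfl⟩
    rw [map_mul]
    have h1 : rho R k E hres (algebraMap R (R ⊗[k] E) t) = 0 := by
      change rho R k E hres (t ⊗ₜ 1) = 0
      have h2 : residue R t = 0 := by
        rw [residue_eq_zero_iff]
        exact ht.not_isUnit
      rw [rho_tmul, h2, map_zero, map_zero, zero_mul]
    rw [h1, zero_mul]

variable [Algebra.IsAlgebraic k E]

include ht in
theorem isUnit_iff (x : R ⊗[k] E) : IsUnit x ↔ rho R k E hres x ≠ 0 := by
  constructor
  · intro h
    exact (h.map (rho R k E hres)).ne_zero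
  · intro h
    by_contra hx
    obtain ⟨M, hM, hxM⟩ := exists_max_ideal_of_mem_nonunits hx
    have hint : Algebra.IsIntegral k E := Algebra.IsAlgebraic.isIntegral
    have hint2 : Algebra.IsIntegral R (R ⊗[k] E) := inferInstance
    have h1 : (M.comap (algebraMap R (R ⊗[k] E))).IsMaximal :=
      Ideal.isMaximal_comap_of_isIntegral_of_isMaximal M
    have h2 : algebraMap R (R ⊗[k] E) t ∈ M := by
      have h3 := eq_maximalIdeal h1
      have h4 : t ∈ maximalIdeal R := ht.not_isUnit
      rw [← h3] at h4
      exact h4
    have h5 : RingHom.ker (rho R k E hres) ≤ M := by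
      intro y hy
      rw [RingHom.mem_ker, mem_ker_iff R k E hres t ht] at hy
      obtain ⟨z, rfl⟩ := hy
      exact M.mul_mem_right _ h2
    have h6 : (RingHom.ker (rho R k E hres)).IsMaximal :=
      RingHom.ker_isMaximal_of_surjective _ (rho_surjective R k E hres)
    have h7 := h6.eq_of_le hM.ne_top h5
    rw [← h7] at hxM
    exact h hxM

include hres ht in
theorem exists_pow (x : R ⊗[k] E) (hx : x ≠ 0) :
    ∃ (n : ℕ) (y : R ⊗[k] E), x = algebraMap R (R ⊗[k] E) t ^ n * y ∧ IsUnit y := by
  obtain ⟨i, hi⟩ : ∃ i, (bs R k E).repr x i ≠ 0 := by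
    by_contra hcon
    push Not at hcon
    apply hx
    apply (bs R k E).repr.injective
    rw [map_zero]
    exact Finsupp.ext hcon
  obtain ⟨m, u, hu⟩ := IsDiscreteValuationRing.eq_unit_mul_pow_irreducible hi ht
  have key : ∀ N : ℕ, (∃ (n : ℕ) (y : R ⊗[k] E), x = algebraMap R (R ⊗[k] E) t ^ n * y ∧ IsUnit y) ∨
      ∃ y : R ⊗[k] E, x = algebraMap R (R ⊗[k] E) t ^ N * y := by
    intro N
    induction N with
    | zero => exact Or.inr ⟨x, by rw [pow_zero, one_mul]⟩
    | succ N ih =>
      rcases ih with h | ⟨y, hy⟩
      · exact Or.inl h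
      · by_cases hyu : rho R k E hres y = 0
        · rw [mem_ker_iff R k E hres t ht] at hyu
          obtain ⟨z, rfl⟩ := hyu
          exact Or.inr ⟨z, by rw [hy, pow_succ, mul_assoc]⟩
        · exact Or.inl ⟨N, y, hy, (isUnit_iff R k E hres t ht y).2 hyu⟩
  rcases key (m + 1) with h | ⟨y, hy⟩
  · exact h
  · exfalso
    have h1 : (bs R k E).repr x i = t ^ (m + 1) * (bs R k E).repr y i := by
      rw [hy, ← map_pow, ← Algebra.smul_def, map_smul]
      rfl
    rw [hu] at h1
    have h2 : t ^ m * (u : R) = t ^ m * (t * (bs R k E).repr y i) := by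
      rw [mul_comm, h1, pow_succ, mul_assoc]
    have h3 := mul_left_cancel₀ (pow_ne_zero m ht.ne_zero) h2
    exact ht.not_isUnit (isUnit_of_mul_isUnit_left (h3 ▸ u.isUnit))

include hres in
theorem isDomain : IsDomain (R ⊗[k] E) := by
  obtain ⟨t, ht⟩ := IsDiscreteValuationRing.exists_irreducible R
  have hnt : Nontrivial (R ⊗[k] E) := (rho R k E hres).toRingHom.domain_nontrivial
  have hinj : Function.Injective (algebraMap R (R ⊗[k] E)) :=
    Algebra.TensorProduct.includeLeft_injective (S := R) (algebraMap k E).injective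
  have : NoZeroDivisors (R ⊗[k] E) := by
    constructor
    intro x y hxy
    by_contra hcon
    push Not at hcon
    obtain ⟨n, a, rfl, ha⟩ := exists_pow R k E hres t ht x hcon.1
    obtain ⟨m, b, rfl, hb⟩ := exists_pow R k E hres t ht y hcon.2
    have h1 : algebraMap R (R ⊗[k] E) t ^ (n + m) * (a * b) = 0 := by
      rw [← hxy]
      ring
    have h2 := ((ha.mul hb).mul_left_eq_zero).1 h1
    rw [← map_pow, map_eq_zero_iff _ hinj] at h2
    exact pow_ne_zero _ ht.ne_zero h2
  exact NoZeroDivisors.to_isDomain _

include hres in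
theorem isDVR [IsDomain (R ⊗[k] E)] : IsDiscreteValuationRing (R ⊗[k] E) := by
  obtain ⟨t, ht⟩ := IsDiscreteValuationRing.exists_irreducible R
  have hinj : Function.Injective (algebraMap R (R ⊗[k] E)) :=
    Algebra.TensorProduct.includeLeft_injective (S := R) (algebraMap k E).injective
  have ht0 : algebraMap R (R ⊗[k] E) t ≠ 0 := by
    rw [Ne, map_eq_zero_iff _ hinj]
    exact ht.ne_zero
  have hirr : Irreducible (algebraMap R (R ⊗[k] E) t) := by
    have h1 : Prime (algebraMap R (R ⊗[k] E) t) := by
      rw [← Ideal.span_singleton_prime ht0]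
      have h2 : Ideal.span {algebraMap R (R ⊗[k] E) t} = RingHom.ker (rho R k E hres) := by
        ext y
        rw [Ideal.mem_span_singleton, RingHom.mem_ker, mem_ker_iff R k E hres t ht]
      rw [h2]
      exact RingHom.ker_isPrime _
    exact h1.irreducible
  refine IsDiscreteValuationRing.ofHasUnitMulPowIrreducibleFactorization ⟨_, hirr, fun {x} hx => ?_⟩
  obtain ⟨n, y, rfl, hy⟩ := exists_pow R k E hres t ht x hx
  exact ⟨n, hy.unit, rfl⟩

include hres in
/-- The residue field. -/
theorem nonempty_residueField [IsLocalRing (R ⊗[k] E)] : Nonempty (ResidueField (R ⊗[k] E) ≃+* E) := by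
  obtain ⟨t, ht⟩ := IsDiscreteValuationRing.exists_irreducible R
  have h : maximalIdeal (R ⊗[k] E) = RingHom.ker (rho R k E hres) := by
    ext y
    rw [mem_maximalIdeal, mem_nonunits_iff, isUnit_iff R k E hres t ht, not_not, RingHom.mem_ker]
  exact ⟨(Ideal.quotEquivOfEq h).trans (RingHom.quotientKerEquivOfSurjective (rho_surjective R k E hres))⟩

end rho

end K773.ScdUr
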